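import Groth.Agent.Lib.Isoc.Slope

/-!
Effectivity and rationality of the first slope.
-/

noncomputable section

open scoped Isocrystal Pointwise
open Module

universe u v

set_option linter.unusedSectionVars false

namespace Groth.Agent.IsocLib

variable {p : ℕ} [Fact p.Prime] {k : Type u} [Field k] [CharP k p] [PerfectRing k p]

local notation "W" => WittVector p k

variable {N : Type v} [AddCommGroup N] [Module (WittVector p k) N] [Module K(p, k) N]
  [IsScalarTower (WittVector p k) K(p, k) N]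
variable {τ : K(p, k) →+* K(p, k)} {F : N →ₛₗ[τ] N}

/-- The span of the first iterates. -/
def orbitSpan (F : N →ₛₗ[τ] N) (M : Submodule (WittVector p k) N) : ℕ → Submodule (WittVector p k) N
  | 0 => ⊥
  | i + 1 => orbitSpan F M i ⊔ Submodule.span (WittVector p k) ((⇑F)^[i] '' (M : Set N))

theorem orbitSpan_le_succ (M : Submodule W N) (i : ℕ) : orbitSpan F M i ≤ orbitSpan F M (i + 1) := le_sup_left

theorem orbitSpan_mono (M : Submodule W N) : Monotone (orbitSpan F M) :=
  monotone_nat_of_le_succ (orbitSpan_le_succ M)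

theorem iterate_mem_orbitSpan (M : Submodule W N) {i j : ℕ} (hij : j < i) {x : N} (hx : x ∈ M) :
    (⇑F)^[j] x ∈ orbitSpan F M i :=
  orbitSpan_mono M (Nat.succ_le_of_lt hij) (Submodule.mem_sup_right (Submodule.subset_span ⟨x, hx, rfl⟩))

theorem le_orbitSpan (M : Submodule W N) {i : ℕ} (hi : 0 < i) : M ≤ orbitSpan F M i :=
  fun _ hx => iterate_mem_orbitSpan M hi hx

theorem map_mem_orbitSpan (h : Tw τ) (M : Submodule W N) : ∀ (i : ℕ), ∀ x ∈ orbitSpan F M i,
    F x ∈ orbitSpan F M (i + 1) := by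
  intro i
  induction i with
  | zero =>
    intro x hx
    rw [show orbitSpan F M 0 = ⊥ from rfl, Submodule.mem_bot] at hx
    rw [hx, map_zero]
    exact zero_mem _
  | succ i ih =>
    intro x hx
    obtain ⟨a, ha, b, hb, rfl⟩ := Submodule.mem_sup.1 hx
    rw [map_add]
    refine add_mem (orbitSpan_le_succ M _ (ih a ha)) ?_
    obtain ⟨y, hy, rfl⟩ := (mem_img (h.pow i) (G := Isoc.iter F i)).1 hb
    rw [Isoc.iter_apply, ← Function.iterate_succ_apply' F i y]
    exact iterate_mem_orbitSpan M (Nat.lt_succ_self _) hy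

theorem orbitSpan_fg (h : Tw τ) {M : Submodule W N} (hM : M.FG) : ∀ i, (orbitSpan F M i).FG
  | 0 => Submodule.fg_bot
  | i + 1 => (orbitSpan_fg h hM i).sup (img_fg (h.pow i) (Isoc.iter F i) hM)

theorem isLattice_orbitSpan (h : Tw τ) (M : Submodule W N) [hM : M.IsLattice K(p, k)] {i : ℕ} (hi : 0 < i) :
    (orbitSpan F M i).IsLattice K(p, k) :=
  Submodule.IsLattice.of_le_of_isLattice_of_fg K(p, k) (le_orbitSpan M hi) (orbitSpan_fg h hM.fg i)

variable [Module.Finite K(p, k) N]

/-- A lattice carried into itself by an iterate gives a stable lattice. -/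
theorem exists_stable_of_iterate (h : Tw τ) (M : Submodule W N) [hM : M.IsLattice K(p, k)] {n : ℕ}
    (hn : 1 ≤ n) (hd : Div M F n 0) :
    ∃ M' : Submodule W N, M'.IsLattice K(p, k) ∧ ∀ x ∈ M', F x ∈ M' := by
  refine ⟨orbitSpan F M n, isLattice_orbitSpan h M hn, fun x hx => ?_⟩
  obtain ⟨a, ha, b, hb, hab⟩ := Submodule.mem_sup.1 (map_mem_orbitSpan h M n x hx)
  rw [← hab]
  refine add_mem ha ?_
  obtain ⟨y, hy, rfl⟩ := (mem_img (h.pow n) (G := Isoc.iter F n)).1 hb
  have := hd y hy
  rw [pPow_zero] at this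
  exact le_orbitSpan M hn this

/-- Katz: an iterate of length above the height losing at most one `p` gives effectivity. -/
theorem exists_stable_of_height (h : Tw τ) (M : Submodule W N) [hM : M.IsLattice K(p, k)]
    (hd : Div M F (finrank K(p, k) N + 1) (-1)) :
    ∃ M' : Submodule W N, M'.IsLattice K(p, k) ∧ ∀ x ∈ M', F x ∈ M' := by
  set d := finrank K(p, k) N
  let M' := orbitSpan F M (d + 1)
  haveI hM' : M'.IsLattice K(p, k) := isLattice_orbitSpan h M (Nat.succ_pos d)
  let C : ℕ → Submodule W N := fun i => Isoc.pPow 1 M' ⊔ orbitSpan F M (min i (d + 1))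
  have hP : (Isoc.pPow 1 M').IsLattice K(p, k) := isLattice_pPow 1 M'
  have hClat : ∀ i, (C i).IsLattice K(p, k) := fun i =>
    Submodule.IsLattice.of_le_of_isLattice_of_fg K(p, k) (le_sup_left (b := orbitSpan F M (min i (d + 1))))
      (hP.fg.sup (orbitSpan_fg h hM.fg _))
  have hpM : Isoc.pPow 1 M' ≤ M' := (pPow_anti zero_le_one M').trans (pPow_zero M').le
  have hCle : ∀ i, C i ≤ M' := fun i => sup_le hpM (orbitSpan_mono M (min_le_right _ _))
  obtain ⟨i, hi, hCi⟩ := exists_chain_eq C (fun i => sup_le_sup_left (orbitSpan_mono M (by omega)) _) d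
    (fun i => by
      have h0 : C 0 = Isoc.pPow 1 M' := by simp [C, orbitSpan]
      have h1 := (vol_anti (hCle i)).1
      have h2 : vol (C 0) = vol M' + 1 * (d : ℤ) := by
        rw [← vol_pPow]
        congr 1
      omega)
  refine ⟨M', hM', ?_⟩
  have hS : ∀ x ∈ orbitSpan F M (i + 1), x ∈ C i := fun x hx => by
    rw [hCi]
    refine Submodule.mem_sup_right ?_
    rwa [min_eq_left (by omega : i + 1 ≤ d + 1)]
  have hMC : ∀ x ∈ M, x ∈ C i := fun x hx => hS x (le_orbitSpan M (Nat.succ_pos _) hx)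
  have hFpM : ∀ y ∈ M', (p : K(p, k)) ^ (1 : ℤ) • F y ∈ C i := by
    intro y hy
    obtain ⟨a, ha, b, hb, hab⟩ := Submodule.mem_sup.1 (map_mem_orbitSpan h M (d + 1) y hy)
    rw [← hab, smul_add]
    refine add_mem (Submodule.mem_sup_left ?_) ?_
    · rw [mem_pPow, smul_smul, ← zpow_add₀ p_ne_zero, show -(1 : ℤ) + 1 = 0 from rfl, zpow_zero, one_smul]
      exact ha
    · obtain ⟨z, hz, rfl⟩ := (mem_img (h.pow (d + 1)) (G := Isoc.iter F (d + 1))).1 hb
      have := mem_pPow.1 (hd z hz)
      rw [neg_neg] at this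
      exact hMC _ this
  have hstab : ∀ x ∈ C i, F x ∈ C i := by
    intro x hx
    obtain ⟨a, ha, b, hb, rfl⟩ := Submodule.mem_sup.1 hx
    rw [map_add]
    refine add_mem ?_ (hS _ (map_mem_orbitSpan h M i b ?_))
    · have := hFpM _ (mem_pPow.1 ha)
      rwa [map_smulₛₗ, map_zpow_p, smul_smul, ← zpow_add₀ p_ne_zero, show (1 : ℤ) + -1 = 0 from rfl, zpow_zero,
        one_smul] at this
    · rwa [min_eq_left (by omega : i ≤ d + 1)] at hb
  have hiter : ∀ j, ∀ x ∈ M, (⇑F)^[j] x ∈ C i := fun j => by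
    induction j with
    | zero => exact hMC
    | succ j ih => intro x hx; rw [Function.iterate_succ_apply']; exact hstab _ (ih x hx)
  have hall : ∀ j, orbitSpan F M j ≤ C i := fun j => by
    induction j with
    | zero => exact bot_le
    | succ j ih => exact sup_le ih (Submodule.span_le.2 (by rintro _ ⟨x, hx, rfl⟩; exact hiter j x hx))
  -- `M' = p M' + S` forces `M' = S`
  set S := orbitSpan F M i
  have hSM : S ≤ M' := orbitSpan_mono M (by omega)
  have hdec : ∀ j : ℕ, M' ≤ Isoc.pPow (j : ℤ) M' ⊔ S := by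
    have h1 : M' ≤ Isoc.pPow 1 M' ⊔ S := by
      have := hall (d + 1)
      simpa only [C, min_eq_left (by omega : i ≤ d + 1)] using this
    intro j
    induction j with
    | zero => rw [Nat.cast_zero, pPow_zero]; exact le_sup_left
    | succ j ih =>
      refine ih.trans (sup_le ?_ le_sup_right)
      intro x hx
      obtain ⟨a, ha, b, hb, hab⟩ := Submodule.mem_sup.1 (h1 (mem_pPow.1 hx))
      have hx' : x = (p : K(p, k)) ^ (j : ℤ) • a + (p : K(p, k)) ^ (j : ℤ) • b := by
        rw [← smul_add, hab, smul_smul, ← zpow_add₀ p_ne_zero, add_neg_cancel, zpow_zero, one_smul]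
      rw [hx']
      refine add_mem (Submodule.mem_sup_left ?_) (Submodule.mem_sup_right (natCast_zpow_smul_mem hb (Int.natCast_nonneg j)))
      rw [mem_pPow, smul_smul, ← zpow_add₀ p_ne_zero, show -((j + 1 : ℕ) : ℤ) + j = -1 by push_cast; ring]
      exact mem_pPow.1 ha
  have hMS : M' ≤ S := by
    rcases Nat.eq_zero_or_pos i with hi0 | hi0
    · have hbot : S = ⊥ := by simp [S, hi0, orbitSpan]
      intro x hx
      rw [eq_zero_of_forall_mem_pPow (x := x) M' fun j => by
        have := hdec j hx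
        rwa [hbot, sup_bot_eq] at this]
      exact zero_mem _
    · haveI : S.IsLattice K(p, k) := isLattice_orbitSpan h M hi0
      obtain ⟨c, hc⟩ := exists_le_pPow hM'.fg S
      refine (hdec c).trans (sup_le ?_ le_rfl)
      have := pPow_mono (c : ℤ) hc
      rwa [pPow_pPow, add_neg_cancel, pPow_zero] at this
  intro x hx
  exact orbitSpan_mono M (by omega : i + 1 ≤ d + 1) (map_mem_orbitSpan h M i x (hMS hx))

variable [Nontrivial N]

theorem exists_stable_of_slope_nonneg (h : Tw τ) (hF : Function.Bijective F) (h0 : 0 ≤ slope h F hF) :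
    ∃ M : Submodule W N, M.IsLattice K(p, k) ∧ ∀ x ∈ M, F x ∈ M := by
  obtain ⟨M, hM⟩ := exists_lattice (p := p) (k := k) (N := N)
  have hpos : 0 < slope (h.pow (finrank K(p, k) N + 1)) (sc F 1 (finrank K(p, k) N + 1)) (bijective_sc hF _ _) := by
    rw [slope_sc h hF]
    push_cast
    positivity
  obtain ⟨n, hn, hd⟩ := exists_div_pos (M := M) (h.pow _) (bijective_sc hF 1 (finrank K(p, k) N + 1)) hpos
  obtain ⟨M₁, hM₁, hst⟩ := exists_stable_of_iterate (h.pow _) M hn (hd.anti zero_le_one)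
  refine exists_stable_of_height h M₁ fun x hx => ?_
  rw [mem_pPow, neg_neg]
  exact hst x hx

theorem exists_div_of_le_slope (h : Tw τ) (hF : Function.Bijective F) {r : ℤ} {s : ℕ} (hs : 0 < s)
    (hrs : (r : ℝ) / s ≤ slope h F hF) : ∃ M : Submodule W N, M.IsLattice K(p, k) ∧ Div M F s r := by
  have h0 : 0 ≤ slope (h.pow s) (sc F (-r) s) (bijective_sc hF _ _) := by
    rw [slope_sc h hF]
    have : (0 : ℝ) < s := by exact_mod_cast hs
    rw [div_le_iff₀ this] at hrs
    push_cast
    linarith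
  obtain ⟨M, hM, hst⟩ := exists_stable_of_slope_nonneg (h.pow s) (bijective_sc hF _ _) h0
  exact ⟨M, hM, fun x hx => mem_pPow.2 (hst x hx)⟩

/-- A topologically nilpotent effective isocrystal is nilpotent mod `p` after height many steps. -/
theorem div_height_of_pos (h : Tw τ) (hF : Function.Bijective F) (M : Submodule W N) [hM : M.IsLattice K(p, k)]
    (hst : ∀ x ∈ M, F x ∈ M) (hpos : 0 < slope h F hF) : Div M F (finrank K(p, k) N) 1 := by
  obtain ⟨m, -, hm⟩ := exists_div_pos (M := M) h hF hpos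
  have hitM : ∀ j, ∀ x ∈ M, (⇑F)^[j] x ∈ M := fun j => by
    induction j with
    | zero => exact fun x hx => hx
    | succ j ih => intro x hx; rw [Function.iterate_succ_apply']; exact hst _ (ih x hx)
  let C : ℕ → Submodule W N := fun i => img (Isoc.iter F i) M ⊔ Isoc.pPow 1 M
  have hP : (Isoc.pPow 1 M).IsLattice K(p, k) := isLattice_pPow 1 M
  have hClat : ∀ i, (C i).IsLattice K(p, k) := fun i =>
    Submodule.IsLattice.of_le_of_isLattice_of_fg K(p, k) (le_sup_right (a := img (Isoc.iter F i) M))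
      ((img_fg (h.pow i) _ hM.fg).sup hP.fg)
  have hC0 : C 0 = M := by
    refine le_antisymm (sup_le (img_le_iff.2 fun x hx => hx) ((pPow_anti zero_le_one M).trans (pPow_zero M).le)) ?_
    exact fun x hx => Submodule.mem_sup_left ((mem_img (h.pow 0)).2 ⟨x, hx, rfl⟩)
  have hFp : ∀ x ∈ Isoc.pPow 1 M, F x ∈ Isoc.pPow 1 M := fun x hx => by
    rw [mem_pPow] at hx ⊢
    have := hst _ hx
    rwa [map_smulₛₗ, map_zpow_p] at this
  have hanti : ∀ i, C (i + 1) ≤ C i := fun i => by
    refine sup_le (img_le_iff.2 fun x hx => ?_) le_sup_right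
    exact Submodule.mem_sup_left ((mem_img (h.pow i)).2 ⟨F x, hst x hx, by
      simp [Isoc.iter_apply]⟩)
  obtain ⟨i, hi, hCi⟩ := exists_chain_eq' C hanti (finrank K(p, k) N) (fun i => by
    have hle : Isoc.pPow 1 M ≤ C i := le_sup_right
    have h1 := (vol_anti hle).1
    have h2 : vol (Isoc.pPow 1 M) = vol M + 1 * (finrank K(p, k) N : ℤ) := vol_pPow 1 M
    have h3 : vol (C 0) = vol M := by congr 1
    omega)
  have hstabC : ∀ j, C i ≤ C (i + j) := by
    intro j
    induction j with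
    | zero => exact le_rfl
    | succ j ih =>
      intro x hx
      rw [hCi] at hx
      obtain ⟨a, ha, b, hb, rfl⟩ := Submodule.mem_sup.1 hx
      refine add_mem ?_ (Submodule.mem_sup_right hb)
      obtain ⟨y, hy, rfl⟩ := (mem_img (h.pow (i + 1))).1 ha
      obtain ⟨a', ha', b', hb', hab⟩ := Submodule.mem_sup.1 (ih (Submodule.mem_sup_left
        ((mem_img (h.pow i)).2 ⟨y, hy, rfl⟩) : Isoc.iter F i y ∈ C i))
      rw [Isoc.iter_apply, Function.iterate_succ_apply', show (⇑F)^[i] y = a' + b' from hab.symm, map_add]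
      obtain ⟨z, hz, rfl⟩ := (mem_img (h.pow (i + j))).1 ha'
      refine add_mem (Submodule.mem_sup_left ((mem_img (h.pow _)).2 ⟨z, hz, ?_⟩)) (Submodule.mem_sup_right (hFp _ hb'))
      rw [Isoc.iter_apply, Isoc.iter_apply, ← Function.iterate_succ_apply' F]
      rfl
  have hm' : C (i + m) ≤ Isoc.pPow 1 M := by
    refine sup_le (img_le_iff.2 fun x hx => ?_) le_rfl
    have := hm _ (hitM i x hx)
    rw [← Function.iterate_add_apply, Nat.add_comm m i] at this
    exact this
  intro x hx
  have h2 : (⇑F)^[finrank K(p, k) N] x ∈ C i := by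
    refine Submodule.mem_sup_left ((mem_img (h.pow i)).2 ⟨(⇑F)^[finrank K(p, k) N - i] x, hitM _ x hx, ?_⟩)
    rw [Isoc.iter_apply, ← Function.iterate_add_apply, Nat.add_sub_cancel' hi]
  exact hm' (hstabC m h2)

theorem gap (h : Tw τ) (hF : Function.Bijective F) {r : ℤ} {s : ℕ} (hs : 0 < s)
    (hlt : (r : ℝ) < s * slope h F hF) :
    (r : ℝ) + 1 / finrank K(p, k) N ≤ s * slope h F hF := by
  have hsl := slope_sc h hF (-r) s
  have hpos : 0 < slope (h.pow s) (sc F (-r) s) (bijective_sc hF _ _) := by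
    rw [hsl]; push_cast; linarith
  obtain ⟨M, hM, hst⟩ := exists_stable_of_slope_nonneg (h.pow s) (bijective_sc hF _ _) hpos.le
  have hd := div_height_of_pos (h.pow s) (bijective_sc hF (-r) s) M hst hpos
  have := div_le_slope (h.pow s) (bijective_sc hF (-r) s) (Module.finrank_pos (R := K(p, k)) (M := N)).ne' hd
  rw [hsl] at this
  push_cast at this
  linarith

theorem slope_rational (h : Tw τ) (hF : Function.Bijective F) :
    ∃ (r : ℤ) (s : ℕ), 0 < s ∧ s ≤ finrank K(p, k) N ∧ slope h F hF = (r : ℝ) / s := by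
  set d := finrank K(p, k) N
  set l := slope h F hF
  have hd : 0 < d := Module.finrank_pos
  obtain ⟨j, q, hq, hqd, habs⟩ := Real.exists_int_int_abs_mul_sub_le l hd
  obtain ⟨s, rfl⟩ := Int.eq_ofNat_of_zero_le hq.le
  have hs : 0 < s := by exact_mod_cast hq
  refine ⟨j, s, hs, by exact_mod_cast hqd, ?_⟩
  have hdR : (0 : ℝ) < d := by exact_mod_cast hd
  have hsR : (0 : ℝ) < s := by exact_mod_cast hs
  have hlt : (1 : ℝ) / (d + 1) < 1 / d := one_div_lt_one_div_of_lt hdR (by linarith)
  rw [Int.cast_natCast] at habs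
  rw [eq_div_iff hsR.ne', mul_comm]
  rcases lt_trichotomy ((s : ℝ) * l) (j : ℝ) with hcase | hcase | hcase
  · exfalso
    set δ := (j : ℝ) - s * l with hδ
    have hδ0 : 0 < δ := by linarith
    have hδd : δ < 1 / d := by
      rw [abs_le] at habs
      linarith
    set m := ⌈1 / δ⌉₊ - 1 with hmdef
    have hceil : (1 / δ : ℝ) ≤ (⌈1 / δ⌉₊ : ℕ) := Nat.le_ceil _
    have hceil2 : ((⌈1 / δ⌉₊ : ℕ) : ℝ) < 1 / δ + 1 := Nat.ceil_lt_add_one (by positivity)
    have hbig : (d : ℝ) < 1 / δ := (lt_one_div hdR hδ0).2 hδd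
    have hc1 : 2 ≤ ⌈1 / δ⌉₊ := by
      have : (1 : ℝ) ≤ d := by exact_mod_cast hd
      have : (1 : ℝ) < ((⌈1 / δ⌉₊ : ℕ) : ℝ) := by linarith
      exact_mod_cast this
    have hm : (m : ℝ) = (⌈1 / δ⌉₊ : ℕ) - 1 := by
      rw [hmdef, Nat.cast_sub (by omega), Nat.cast_one]
    have hmδ : (m : ℝ) * δ < 1 := by
      have : (m : ℝ) < 1 / δ := by linarith
      calc (m : ℝ) * δ < 1 / δ * δ := mul_lt_mul_of_pos_right this hδ0
        _ = 1 := by field_simp
    have hmδ' : 1 - δ ≤ (m : ℝ) * δ := by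
      have : 1 / δ - 1 ≤ (m : ℝ) := by linarith
      calc 1 - δ = (1 / δ - 1) * δ := by field_simp
        _ ≤ (m : ℝ) * δ := mul_le_mul_of_nonneg_right this hδ0.le
    have hms : 0 < s * m := Nat.mul_pos hs (by omega)
    have hg := gap h hF (r := j * m - 1) hms (by
      push_cast
      nlinarith)
    push_cast at hg
    nlinarith
  · exact hcase
  · exfalso
    have hg := gap h hF (r := j) hs hcase
    rw [abs_le] at habs
    linarith

end Groth.Agent.IsocLib
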