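import Groth.Agent.Lib.Isoc.Manin
import Mathlib.LinearAlgebra.Charpoly.ToMatrix
import Mathlib.LinearAlgebra.Charpoly.BaseChange
import Mathlib.FieldTheory.IsAlgClosed.Spectrum
import Mathlib.LinearAlgebra.Matrix.Charpoly.Eigs
import Mathlib.FieldTheory.Finite.Basic
import Mathlib.RingTheory.IntegralClosure.IntegrallyClosed

/-!
Over a finite field the slopes are read off the eigenvalues of the linearised Frobenius.
-/

noncomputable section

open scoped Isocrystal Pointwise
open Module Polynomial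

universe u v w

set_option linter.unusedSectionVars false

namespace Groth.Agent.IsocLib

variable {p : ℕ} [Fact p.Prime] {k : Type u} [Field k] [CharP k p] [PerfectRing k p]

local notation "W" => WittVector p k
local notation "am" => algebraMap (WittVector p k) (FractionRing (WittVector p k))

theorem frobeniusEquiv_pow_card [Fintype k] {m : ℕ} (hk : Fintype.card k = p ^ m) :
    WittVector.frobeniusEquiv p k ^ m = 1 := by
  have hW : ∀ (n : ℕ) (w : W) (i : ℕ), ((WittVector.frobeniusEquiv p k ^ n) w).coeff i = w.coeff i ^ p ^ n := by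
    intro n
    induction n with
    | zero => simp
    | succ n ih =>
      intro w i
      rw [pow_succ]
      refine (ih (WittVector.frobeniusEquiv p k w) i).trans ?_
      rw [show (WittVector.frobeniusEquiv p k w).coeff i = w.coeff i ^ p from
        WittVector.coeff_frobenius_charP p w i, ← pow_mul, pow_succ']
  refine RingEquiv.ext fun w => WittVector.ext fun i => ?_
  rw [hW, ← hk, FiniteField.pow_card]
  rfl

theorem frob_pow_card [Fintype k] {m : ℕ} (hk : Fintype.card k = p ^ m) (a : ℤ) :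
    Isoc.frob p k a ^ m = RingHom.id K(p, k) := by
  refine RingHom.ext fun c => ?_
  obtain ⟨x, y, -, rfl⟩ := IsFractionRing.div_surjective (A := W) c
  have : WittVector.frobeniusEquiv p k ^ (a * (m : ℤ)) = 1 := by
    rw [mul_comm, zpow_mul, zpow_natCast, frobeniusEquiv_pow_card hk, one_zpow]
  rw [map_div₀, frob_pow_algebraMap, frob_pow_algebraMap, this]
  rfl

variable {N : Type v} [AddCommGroup N] [Module (WittVector p k) N] [Module K(p, k) N]
  [IsScalarTower (WittVector p k) K(p, k) N] [Module.Finite K(p, k) N]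

/-- A linear map carrying a lattice onto itself is killed by a monic polynomial over `W` with unit constant term. -/
theorem exists_poly_of_pure (T : N →ₗ[K(p, k)] N) (M : Submodule W N) [hM : M.IsLattice K(p, k)]
    (hT : ⇑T '' (M : Set N) = M) (hi : Function.Injective T) :
    ∃ g : W[X], g.Monic ∧ IsUnit (g.coeff 0) ∧ aeval T (g.map am) = 0 := by
  haveI : Module.Free W M := Submodule.IsLattice.free (K := K(p, k)) M
  haveI : Module.Finite W M := Module.Finite.iff_fg.2 hM.fg
  let TM : M →ₗ[W] M := (T.restrictScalars W).restrict (p := M) (q := M) fun x hx => by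
    have : T x ∈ ⇑T '' (M : Set N) := ⟨x, hx, rfl⟩
    rwa [hT] at this
  have hb : Function.Bijective TM := by
    refine ⟨fun x y hxy => Subtype.ext (hi (congrArg Subtype.val hxy)), fun y => ?_⟩
    have hy : (y : N) ∈ ⇑T '' (M : Set N) := by rw [hT]; exact y.2
    obtain ⟨x, hx, hxy⟩ := hy
    exact ⟨⟨x, hx⟩, Subtype.ext hxy⟩
  refine ⟨TM.charpoly, TM.charpoly_monic, ?_, ?_⟩
  · have h1 : IsUnit (LinearMap.det TM) := (LinearEquiv.ofBijective TM hb).isUnit_det'
    rw [LinearMap.det_eq_sign_charpoly_coeff] at h1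
    exact isUnit_of_mul_isUnit_right h1
  · have key : ∀ (q : W[X]) (x : M), aeval T (q.map am) (x : N) = ((aeval TM q x : M) : N) := by
      intro q
      induction q using Polynomial.induction_on' with
      | add q r hq hr =>
        intro x
        rw [Polynomial.map_add, map_add, map_add, LinearMap.add_apply, LinearMap.add_apply, Submodule.coe_add, hq, hr]
      | monomial n c =>
        intro x
        have hpow : ∀ n : ℕ, (T ^ n) (x : N) = (((TM ^ n) x : M) : N) := fun n => by
          induction n with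
          | zero => rfl
          | succ n ih => rw [pow_succ', Module.End.mul_apply, ih, pow_succ', Module.End.mul_apply]; rfl
        rw [Polynomial.map_monomial, aeval_monomial, aeval_monomial, Module.End.mul_apply, Module.End.mul_apply,
          Module.algebraMap_end_apply, Module.algebraMap_end_apply, hpow, Submodule.coe_smul_of_tower, w_smul]
    refine LinearMap.ext_on hM.span_eq_top fun x hx => ?_
    rw [key _ ⟨x, hx⟩, LinearMap.aeval_self_charpoly]
    rfl

/-- A root of a monic polynomial with unit constant term is a unit of the integral closure. -/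
theorem integral_unit_of_root {Ω : Type w} [Field Ω] [Algebra W Ω] {g : W[X]} (hg : g.Monic)
    (h0 : IsUnit (g.coeff 0)) {β : Ω} (hβ : aeval β g = 0) :
    IsIntegral W β ∧ IsIntegral W β⁻¹ := by
  have hβi : IsIntegral W β := ⟨g, hg, hβ⟩
  refine ⟨hβi, ?_⟩
  have h1 : β * aeval β g.divX + algebraMap W Ω (g.coeff 0) = 0 := by
    conv_rhs => rw [← hβ]
    conv_rhs => rw [← Polynomial.X_mul_divX_add g, map_add, map_mul, aeval_X, aeval_C]
  obtain ⟨u, hu⟩ := h0
  rw [← hu] at h1
  have h2 : algebraMap W Ω (u : W) * algebraMap W Ω ((u⁻¹ : Wˣ) : W) = 1 := by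
    rw [← map_mul, Units.mul_inv, map_one]
  have h3 : β⁻¹ = -(algebraMap W Ω ((u⁻¹ : Wˣ) : W)) * aeval β g.divX := by
    refine inv_eq_of_mul_eq_one_right ?_
    linear_combination (-(algebraMap W Ω ((u⁻¹ : Wˣ) : W))) * h1 + h2
  rw [h3]
  refine IsIntegral.mul isIntegral_algebraMap.neg ?_
  exact adjoin_le_integralClosure hβi (aeval_mem_adjoin_singleton W β)

/-- No non-zero power of `p` is a unit of an integral closure of `W`. -/
theorem eq_zero_of_integral_zpow {Ω : Type w} [Field Ω] [Algebra W Ω] [Algebra K(p, k) Ω]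
    [IsScalarTower W K(p, k) Ω] {z : ℤ}
    (h1 : IsIntegral W ((algebraMap K(p, k) Ω (p : K(p, k))) ^ z))
    (h2 : IsIntegral W ((algebraMap K(p, k) Ω (p : K(p, k))) ^ z)⁻¹) : z = 0 := by
  have key : ∀ z : ℤ, IsIntegral W ((algebraMap K(p, k) Ω (p : K(p, k))) ^ z) → 0 ≤ z := by
    intro z hz
    rw [← map_zpow₀, isIntegral_algebraMap_iff (algebraMap K(p, k) Ω).injective] at hz
    obtain ⟨w, hw⟩ := IsIntegrallyClosed.isIntegral_iff.1 hz
    have := ord_nonneg_of_mem (zpow_p_ne_zero z) hw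
    rwa [ord_zpow] at this
  rw [← zpow_neg] at h2
  have := key z h1
  have := key (-z) h2
  omega

theorem pred_unique {Ω : Type w} [Field Ω] [Algebra W Ω] [Algebra K(p, k) Ω] [IsScalarTower W K(p, k) Ω]
    {m : ℕ} (hm : m ≠ 0) {α : Ω} {μ ν : ℚ}
    (h1 : IsIntegral W (α ^ μ.den * (algebraMap K(p, k) Ω (p : K(p, k))) ^ (-(μ.num * (m : ℤ)))))
    (h1' : IsIntegral W (α ^ μ.den * (algebraMap K(p, k) Ω (p : K(p, k))) ^ (-(μ.num * (m : ℤ))))⁻¹)
    (h2 : IsIntegral W (α ^ ν.den * (algebraMap K(p, k) Ω (p : K(p, k))) ^ (-(ν.num * (m : ℤ)))))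
    (h2' : IsIntegral W (α ^ ν.den * (algebraMap K(p, k) Ω (p : K(p, k))) ^ (-(ν.num * (m : ℤ))))⁻¹)
    (hα : α ≠ 0) : μ = ν := by
  set c := algebraMap K(p, k) Ω (p : K(p, k)) with hc
  have hc0 : c ≠ 0 := (_root_.map_ne_zero _).2 p_ne_zero
  have key : (α ^ μ.den * c ^ (-(μ.num * (m : ℤ)))) ^ ν.den * ((α ^ ν.den * c ^ (-(ν.num * (m : ℤ))))⁻¹) ^ μ.den =
      c ^ ((m : ℤ) * (ν.num * μ.den - μ.num * ν.den)) := by
    rw [inv_pow, mul_pow, mul_pow, ← pow_mul, ← pow_mul, mul_comm μ.den ν.den, mul_inv, ← zpow_natCast (c ^ _),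
      ← zpow_natCast (c ^ _), ← zpow_mul, ← zpow_mul, ← zpow_neg,
      show ∀ a b d : Ω, a * b * (a⁻¹ * d) = (a * a⁻¹) * (b * d) from fun a b d => by ring,
      mul_inv_cancel₀ (pow_ne_zero _ hα), one_mul, ← zpow_add₀ hc0]
    congr 1
    ring
  have hA := (h1.pow ν.den).mul (h2'.pow μ.den)
  have hB := (h1'.pow ν.den).mul (h2.pow μ.den)
  rw [key] at hA
  have hB' : IsIntegral W (c ^ ((m : ℤ) * (ν.num * μ.den - μ.num * ν.den)))⁻¹ := by
    rw [← key, mul_inv, ← inv_pow, ← inv_pow, inv_inv]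
    exact hB
  have h0 := eq_zero_of_integral_zpow hA hB'
  rw [mul_eq_zero, sub_eq_zero] at h0
  refine Rat.eq_iff_mul_eq_mul.2 ?_
  exact (h0.resolve_left (by exact_mod_cast hm)).symm

variable {a : ℤ} {F : N →ₛₗ[Isoc.frob p k a] N}

/-- The eigenvalues on an isoclinic isocrystal. -/
theorem pred_of_isIsoclinic [Fintype k] {m : ℕ} (hk : Fintype.card k = p ^ m) (hF : Function.Bijective F)
    {μ : ℚ} (hI : Isoc.IsIsoclinic F μ) (π : N →ₗ[K(p, k)] N) (hπ : ∀ x, π x = (⇑F)^[m] x)
    {Ω : Type w} [Field Ω] [Algebra W Ω] [Algebra K(p, k) Ω] [IsScalarTower W K(p, k) Ω] {α : Ω}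
    (hα : α ∈ (π.charpoly.map (algebraMap K(p, k) Ω)).roots) :
    IsIntegral W (α ^ μ.den * (algebraMap K(p, k) Ω (p : K(p, k))) ^ (-(μ.num * (m : ℤ)))) ∧
      IsIntegral W (α ^ μ.den * (algebraMap K(p, k) Ω (p : K(p, k))) ^ (-(μ.num * (m : ℤ))))⁻¹ ∧ α ≠ 0 := by
  obtain ⟨M, hM, hP⟩ := exists_pure_num_den (tw_frob (p := p) (k := k) a) hF hI
  have hπn : ∀ n : ℕ, ∀ x, (π ^ n) x = (⇑F)^[m * n] x := fun n => by
    induction n with
    | zero => simp
    | succ n ih => intro x; rw [pow_succ', Module.End.mul_apply, ih, hπ, ← Function.iterate_add_apply,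
        show m + m * n = m * (n + 1) by ring]
  let T : N →ₗ[K(p, k)] N := (p : K(p, k)) ^ (-(μ.num * (m : ℤ))) • π ^ μ.den
  have hT : ⇑T = (⇑(sc F (-μ.num) μ.den))^[m] := funext fun x => by
    show (p : K(p, k)) ^ (-(μ.num * (m : ℤ))) • (π ^ μ.den) x = _
    rw [sc_iterate, hπn, Nat.mul_comm μ.den m, neg_mul]
  obtain ⟨g, hg, hg0, hgT⟩ := exists_poly_of_pure T M (by rw [hT]; exact hP.iterate m)
    (by rw [hT]; exact (bijective_sc hF _ _).1.iterate m)
  let Q : K(p, k)[X] := (g.map am).comp (C ((p : K(p, k)) ^ (-(μ.num * (m : ℤ)))) * X ^ μ.den)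
  have hQ : aeval π Q = 0 := by
    rw [aeval_comp, map_mul, aeval_C, map_pow, aeval_X, ← Algebra.smul_def]
    exact hgT
  let b := Module.finBasis K(p, k) N
  let A := (LinearMap.toMatrix b b π).map (algebraMap K(p, k) Ω)
  have hAc : A.charpoly = π.charpoly.map (algebraMap K(p, k) Ω) := by
    rw [Matrix.charpoly_map, LinearMap.charpoly_toMatrix]
  have hspec : α ∈ spectrum Ω A :=
    Matrix.mem_spectrum_iff_isRoot_charpoly.2 (hAc ▸ (Polynomial.mem_roots'.1 hα).2)
  have hne : Nonempty (Fin (finrank K(p, k) N)) := by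
    by_contra hne
    rw [not_nonempty_iff] at hne
    rw [← hAc, Matrix.charpoly, Matrix.det_isEmpty] at hα
    simp at hα
  have hQA : aeval A (Q.map (algebraMap K(p, k) Ω)) = 0 := by
    rw [Polynomial.aeval_map_algebraMap,
      show A = (Algebra.ofId K(p, k) Ω).mapMatrix (LinearMap.toMatrixAlgEquiv b π) from rfl,
      Polynomial.aeval_algHom_apply, Polynomial.aeval_algHom_apply, hQ, map_zero, map_zero]
  have h1 := spectrum.subset_polynomial_aeval A (Q.map (algebraMap K(p, k) Ω)) ⟨α, hspec, rfl⟩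
  rw [hQA, spectrum.zero_eq, Set.mem_singleton_iff] at h1
  have h2 : aeval (α ^ μ.den * (algebraMap K(p, k) Ω (p : K(p, k))) ^ (-(μ.num * (m : ℤ)))) g = 0 := by
    rw [← Polynomial.aeval_map_algebraMap K(p, k), ← h1]
    show aeval _ _ = Polynomial.eval α _
    rw [eval_map_algebraMap, aeval_comp, map_mul, aeval_C,
      map_pow, aeval_X, mul_comm, map_zpow₀]
  obtain ⟨ha, hb⟩ := integral_unit_of_root hg hg0 h2
  refine ⟨ha, hb, fun h0 => ?_⟩
  rw [h0, zero_pow μ.den_ne_zero, zero_mul, Polynomial.aeval_def, Polynomial.eval₂_at_zero] at h2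
  exact (hg0.map (algebraMap W Ω)).ne_zero h2

theorem charpoly_eq_prod {ι : Type w} [Fintype ι] [LinearOrder ι] (A : ι → Submodule K(p, k) N)
    (hA : DirectSum.IsInternal A) (π : N →ₗ[K(p, k)] N) (hs : ∀ i, ∀ x ∈ A i, π x ∈ A i) :
    π.charpoly = ∏ i, (π.restrict (hs i)).charpoly := by
  classical
  let v : ∀ i, Basis (Fin (finrank K(p, k) (A i))) K(p, k) (A i) := fun i => Module.finBasis _ _
  let B := hA.collectedBasis v
  have hBj : ∀ j : Σ i, Fin (finrank K(p, k) (A i)), B j = ((v j.1 j.2 : A j.1) : N) := fun j => by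
    simp only [B, DirectSum.IsInternal.collectedBasis_coe]
  have htri : (LinearMap.toMatrix B B π).BlockTriangular Sigma.fst := by
    rintro ⟨i, a⟩ ⟨j, b⟩ hlt
    rw [LinearMap.toMatrix_apply, hBj]
    exact hA.collectedBasis_repr_of_mem_ne v (ne_of_gt (show j < i from hlt)).symm (hs j _ (v j b).2)
  rw [← LinearMap.charpoly_toMatrix π B, htri.charpoly, Finset.prod_subset (Finset.subset_univ _) fun i _ hi => ?_]
  · refine Finset.prod_congr rfl fun i _ => ?_
    rw [← LinearMap.charpoly_toMatrix (π.restrict (hs i)) (v i),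
      ← Matrix.charpoly_reindex (Equiv.sigmaSubtype (β := fun i => Fin (finrank K(p, k) (A i))) i)]
    congr 1
    refine Matrix.ext fun a b => ?_
    show LinearMap.toMatrix B B π ⟨i, a⟩ ⟨i, b⟩ = _
    rw [LinearMap.toMatrix_apply, LinearMap.toMatrix_apply, hBj]
    exact hA.collectedBasis_repr_of_mem v (hs i _ (v i b).2)
  · have : IsEmpty {x : Σ i, Fin (finrank K(p, k) (A i)) // x.1 = i} :=
      ⟨fun x => hi (Finset.mem_image.2 ⟨x.1, Finset.mem_univ _, x.2⟩)⟩
    rw [Matrix.charpoly, Matrix.det_isEmpty]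

theorem countP_roots_prod {Ω : Type w} [Field Ω] {ι : Type*} (P : Ω → Prop) [DecidablePred P] (s : Finset ι)
    (f : ι → Ω[X]) (hf : ∀ i ∈ s, f i ≠ 0) :
    (∏ i ∈ s, f i).roots.countP P = ∑ i ∈ s, (f i).roots.countP P := by
  classical
  induction s using Finset.induction_on with
  | empty => simp
  | insert x s hx ih =>
    rw [Finset.prod_insert hx, Finset.sum_insert hx, Polynomial.roots_mul (mul_ne_zero (hf x (Finset.mem_insert_self x s))
      (Finset.prod_ne_zero_iff.2 fun i hi => hf i (Finset.mem_insert_of_mem hi))), Multiset.countP_add,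
      ih fun i hi => hf i (Finset.mem_insert_of_mem hi)]

theorem newtonMult_eq_countP [Fintype k] {m : ℕ} (hk : Fintype.card k = p ^ m) (hF : Function.Bijective F)
    (π : N →ₗ[K(p, k)] N) (hπ : ∀ x, π x = (⇑F)^[m] x)
    (Ω : Type w) [Field Ω] [IsAlgClosed Ω] [Algebra W Ω] [Algebra K(p, k) Ω] [IsScalarTower W K(p, k) Ω]
    (μ : ℚ) (P : Ω → Prop) [DecidablePred P]
    (hPdef : ∀ α, P α ↔ IsIntegral W (α ^ μ.den * (algebraMap K(p, k) Ω (p : K(p, k))) ^ (-(μ.num * (m : ℤ)))) ∧
      IsIntegral W (α ^ μ.den * (algebraMap K(p, k) Ω (p : K(p, k))) ^ (-(μ.num * (m : ℤ))))⁻¹) :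
    Isoc.newtonMult F μ = Multiset.countP P (π.charpoly.map (algebraMap K(p, k) Ω)).roots := by
  classical
  have hT := tw_frob (p := p) (k := k) a
  have hm : m ≠ 0 := fun h0 => by
    have := Fintype.one_lt_card (α := k)
    rw [hk, h0, pow_zero] at this
    exact lt_irrefl _ this
  have hind := iSupIndep_slopePart hT hF.1 (F := F)
  haveI : Fintype {μ : ℚ // Isoc.slopePart F μ ≠ ⊥} := hind.fintypeNeBotOfFiniteDimensional
  have hint : DirectSum.IsInternal fun μ : {μ : ℚ // Isoc.slopePart F μ ≠ ⊥} => Isoc.slopePart F μ.1 :=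
    DirectSum.isInternal_ne_bot_iff.2 (isInternal_slopePart hT hF.1)
  have hs : ∀ ν : {μ : ℚ // Isoc.slopePart F μ ≠ ⊥}, ∀ x ∈ Isoc.slopePart F ν.1, π x ∈ Isoc.slopePart F ν.1 := by
    intro ν x hx
    rw [hπ]
    have : ∀ n : ℕ, (⇑F)^[n] x ∈ Isoc.slopePart F ν.1 := fun n => by
      induction n with
      | zero => exact hx
      | succ n ih => rw [Function.iterate_succ_apply']; exact slopePart_stable (F := F) hT ν.1 _ ih
    exact this m
  rw [charpoly_eq_prod _ hint π hs, Polynomial.map_prod,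
    countP_roots_prod P _ _ fun i _ => ((LinearMap.charpoly_monic _).map _).ne_zero]
  have hpart : ∀ ν : {μ : ℚ // Isoc.slopePart F μ ≠ ⊥},
      Multiset.countP P ((π.restrict (hs ν)).charpoly.map (algebraMap K(p, k) Ω)).roots =
        if ν.1 = μ then Isoc.newtonMult F μ else 0 := by
    intro ν
    obtain ⟨hst, hi⟩ := slopePart_mem (F := F) hT ν.1
    have hb : Function.Bijective (F.restrict hst) :=
      bijective_of_injective hT fun x y hxy => Subtype.ext (hF.1 (congrArg Subtype.val hxy))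
    have hπr : ∀ x, π.restrict (hs ν) x = (⇑(F.restrict hst))^[m] x := fun x => by
      refine Subtype.ext ((hπ x).trans ?_)
      exact ((Function.Semiconj.iterate_right (f := Subtype.val) (ga := ⇑(F.restrict hst)) (gb := ⇑F)
        (fun _ => rfl) m) x).symm
    have hall : ∀ α ∈ ((π.restrict (hs ν)).charpoly.map (algebraMap K(p, k) Ω)).roots, (ν.1 = μ ↔ P α) := by
      intro α hα
      obtain ⟨h1, h1', h0⟩ := pred_of_isIsoclinic hk hb hi _ hπr hα
      rw [hPdef]
      exact ⟨fun e => e ▸ ⟨h1, h1'⟩, fun h => pred_unique hm h1 h1' h.1 h.2 h0⟩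
    split_ifs with hν
    · rw [Multiset.countP_eq_card.2 fun α hα => (hall α hα).1 hν,
        ← (IsAlgClosed.splits _).natDegree_eq_card_roots, Polynomial.natDegree_map, LinearMap.charpoly_natDegree,
        ← hν, Isoc.newtonMult]
    · exact Multiset.countP_eq_zero.2 fun α hα hP => hν ((hall α hα).2 hP)
  simp only [hpart]
  by_cases h0 : Isoc.slopePart F μ = ⊥
  · rw [Finset.sum_eq_zero fun ν _ => if_neg fun e : ν.1 = μ => ν.2 (e ▸ h0), newtonMult_eq_zero_of_bot h0]
  · rw [Finset.sum_eq_single (⟨μ, h0⟩ : {μ : ℚ // Isoc.slopePart F μ ≠ ⊥}) (fun b _ hb =>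
      if_neg fun e => hb (Subtype.ext e)) (fun h => absurd (Finset.mem_univ _) h), if_pos rfl]

end Groth.Agent.IsocLib
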