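import Groth.Agent.Lib.Isoc.Split
import Groth.Agent.Lib.SigmaLin.Basic
import Mathlib.LinearAlgebra.Matrix.ToLin
import Mathlib.FieldTheory.IsAlgClosed.Basic

/-!
Over an algebraically closed field a lattice carried onto itself by a semilinear map with a
non-trivial twist is spanned by fixed vectors.
-/

noncomputable section

open scoped Isocrystal Pointwise
open Module

universe u v

set_option linter.unusedSectionVars false

namespace Groth.Agent.IsocLib

variable {p : ℕ} [Fact p.Prime] {k : Type u} [Field k] [CharP k p] [IsAlgClosed k] [PerfectRing k p]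

local notation "W" => WittVector p k
local notation "am" => algebraMap (WittVector p k) (FractionRing (WittVector p k))
local notation "cc" => (WittVector.constantCoeff : WittVector p k →+* k)

omit [IsAlgClosed k] in
theorem cc_eq_zero {w : W} : cc w = 0 ↔ ∃ w', w = (p : W) * w' := by
  show w.coeff 0 = 0 ↔ _
  rw [← WittVector.mem_span_p_iff_coeff_zero_eq_zero, Ideal.mem_span_singleton]
  rfl

omit [IsAlgClosed k] in
theorem cc_surjective : Function.Surjective cc := fun x => ⟨WittVector.teichmuller p x, by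
  show (WittVector.teichmuller p x).coeff 0 = x
  exact WittVector.teichmuller_coeff_zero p x⟩

variable {n : ℕ} {σ : WittVector p k ≃+* WittVector p k} {h : ℕ}

/-- The semilinear map given by a matrix, on residues. -/
def resMap (n : ℕ) (A : Matrix (Fin h) (Fin h) k) :
    (Fin h → k) →ₛₗ[iterateFrobenius k p n] (Fin h → k) where
  toFun v := A.mulVec fun i => iterateFrobenius k p n (v i)
  map_add' x y := by
    rw [← Matrix.mulVec_add]
    exact congrArg A.mulVec (funext fun i => map_add _ _ _)
  map_smul' c x := by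
    rw [← Matrix.mulVec_smul]
    exact congrArg A.mulVec (funext fun i => by simp)

theorem cc_mulVec (hσ : ∀ w, cc (σ w) = cc w ^ p ^ n) (A : Matrix (Fin h) (Fin h) W) (x : Fin h → W) :
    (fun i => cc (A.mulVec (fun j => σ (x j)) i)) =
      resMap (p := p) n (A.map cc) (fun i => cc (x i)) := by
  funext i
  rw [RingHom.map_mulVec]
  show (A.map cc).mulVec _ i = (A.map cc).mulVec _ i
  congr 1
  funext j
  rw [Function.comp_apply, hσ, iterateFrobenius_def]

/-- A fixed vector modulo `p` lifts to a fixed vector. -/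
theorem exists_lift_fixed (hn : 0 < n) (hσ : ∀ w, cc (σ w) = cc w ^ p ^ n) (A : Matrix (Fin h) (Fin h) W)
    (v : Fin h → k) (hv : resMap (p := p) n (A.map cc) v = v) :
    ∃ x : Fin h → W, A.mulVec (fun i => σ (x i)) = x ∧ ∀ i, cc (x i) = v i := by
  let Φ : (Fin h → W) → (Fin h → W) := fun x => A.mulVec fun i => σ (x i)
  have hsub := SigmaLinLib.sub_surjective (resMap (p := p) n (A.map cc))
    (SigmaLinLib.cond2_frobenius k p n hn) (SigmaLinLib.cond3_frobenius k p n hn)
  have hstep : ∀ (j : ℕ) (x : Fin h → W), (∀ i, (p : W) ^ j ∣ Φ x i - x i) →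
      ∃ y : Fin h → W, (∀ i, (p : W) ^ (j + 1) ∣ Φ (fun i => x i + (p : W) ^ j * y i) i -
        (x i + (p : W) ^ j * y i)) := by
    intro j x hx
    choose z hz using hx
    obtain ⟨yb, hyb⟩ := hsub fun i => cc (z i)
    choose y hy using fun i => cc_surjective (p := p) (yb i)
    refine ⟨y, fun i => ?_⟩
    have hΦ : Φ (fun i => x i + (p : W) ^ j * y i) i = Φ x i + (p : W) ^ j * Φ y i := by
      have e : (fun i => σ (x i + (p : W) ^ j * y i)) = (fun i => σ (x i)) + (p : W) ^ j • fun i => σ (y i) :=
        funext fun i => by simp [map_add, map_mul]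
      show A.mulVec _ i = _
      rw [e, Matrix.mulVec_add, Matrix.mulVec_smul]
      rfl
    rw [hΦ]
    have h0 : cc (z i + Φ y i - y i) = 0 := by
      have h1 := congrFun (cc_mulVec hσ A y) i
      have h2 := congrFun hyb i
      simp only [Pi.sub_apply] at h2
      rw [show (fun i => cc (y i)) = yb from funext hy] at h1
      rw [map_sub, map_add, hy, show cc (Φ y i) = _ from h1, ← h2]
      ring
    obtain ⟨w, hw⟩ := cc_eq_zero.1 h0
    exact ⟨w, by rw [show Φ x i + (p : W) ^ j * Φ y i - (x i + (p : W) ^ j * y i) =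
      (Φ x i - x i) + (p : W) ^ j * (Φ y i - y i) by ring, hz, pow_succ, ← mul_add,
      show z i + (Φ y i - y i) = z i + Φ y i - y i by ring, hw]; ring⟩
  choose x0 hx0 using fun i => cc_surjective (p := p) (v i)
  have hbase : ∀ i, (p : W) ^ 1 ∣ Φ x0 i - x0 i := fun i => by
    have h1 := congrFun (cc_mulVec hσ A x0) i
    rw [show (fun i => cc (x0 i)) = v from funext hx0, hv] at h1
    have h2 : cc (Φ x0 i - x0 i) = 0 := by rw [map_sub, show cc (Φ x0 i) = _ from h1, hx0, sub_self]
    obtain ⟨w, hw⟩ := cc_eq_zero.1 h2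
    exact ⟨w, by rw [pow_one, hw]⟩
  choose! y hy using hstep
  let xs : ℕ → Fin h → W := fun j => Nat.rec x0 (fun j x i => x i + (p : W) ^ (j + 1) * y (j + 1) x i) j
  have hxs : ∀ j i, (p : W) ^ (j + 1) ∣ Φ (xs j) i - xs j i := fun j => by
    induction j with
    | zero => exact hbase
    | succ j ih => exact hy (j + 1) (xs j) ih
  have hlim : ∀ i, ∃ l : W, ∀ j, xs j i - l ∈ Ideal.span {(p : W) ^ j} := by
    intro i
    obtain ⟨l, hl⟩ := IsPrecomplete.prec (I := Ideal.span {(p : W)}) inferInstance (f := fun j => xs j i)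
      (fun {a b} hab => by
        rw [Ideal.smul_eq_mul, Ideal.mul_top, Ideal.span_singleton_pow, SModEq.sub_mem]
        induction b, hab using Nat.le_induction with
        | base => simp
        | succ b hb ih =>
          have h3 : (p : W) ^ (b + 1) * y (b + 1) (xs b) i ∈ Ideal.span {(p : W) ^ a} :=
            Ideal.mem_span_singleton.2 (Dvd.dvd.mul_right (pow_dvd_pow _ (by omega)) _)
          have := sub_mem ih h3
          rwa [sub_sub] at this)
    refine ⟨l, fun j => ?_⟩
    have := hl j
    rwa [Ideal.smul_eq_mul, Ideal.mul_top, Ideal.span_singleton_pow, SModEq.sub_mem] at this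
  choose l hl using hlim
  choose c hc using fun i j => Ideal.mem_span_singleton.1 (hl i j)
  refine ⟨l, funext fun i => ?_, fun i => ?_⟩
  · have hall : ∀ j : ℕ, (p : W) ^ j ∣ Φ l i - l i := fun j => by
      have e : l = fun i => xs j i + (p : W) ^ j * -c i j :=
        funext fun i => by rw [mul_neg, ← hc]; ring
      have hΦ : Φ l i = Φ (xs j) i + (p : W) ^ j * Φ (fun i => -c i j) i := by
        conv_lhs => rw [e]
        show A.mulVec _ i = _
        rw [show (fun i => σ (xs j i + (p : W) ^ j * -c i j)) = (fun i => σ (xs j i)) +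
          (p : W) ^ j • fun i => σ (-c i j) from funext fun i => by simp [map_add, map_mul],
          Matrix.mulVec_add, Matrix.mulVec_smul]
        rfl
      rw [hΦ, congrFun e i, show ∀ a b c d q : W, a + q * b - (c + q * d) = (a - c) + q * (b - d) from
        fun _ _ _ _ _ => by ring]
      exact dvd_add ((pow_dvd_pow _ j.le_succ).trans (hxs j i)) (Dvd.intro _ rfl)
    refine sub_eq_zero.1 (IsHausdorff.haus' (I := Ideal.span {(p : W)}) (Φ l i - l i) fun j => ?_)
    rw [Ideal.smul_eq_mul, Ideal.mul_top, Ideal.span_singleton_pow, SModEq.sub_mem, sub_zero]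
    exact Ideal.mem_span_singleton.2 (hall j)
  · have h1 := hl i 1
    rw [pow_one, Ideal.mem_span_singleton] at h1
    have h2 : cc (xs 1 i - l i) = 0 := cc_eq_zero.2 h1
    rw [map_sub, sub_eq_zero] at h2
    rw [← h2]
    show cc (x0 i + (p : W) ^ (0 + 1) * y (0 + 1) x0 i) = v i
    rw [map_add, map_mul, map_pow, map_natCast, CharP.cast_eq_zero]
    simp [hx0]

variable {N : Type v} [AddCommGroup N] [Module (WittVector p k) N] [Module K(p, k) N]
  [IsScalarTower (WittVector p k) K(p, k) N] [Module.Finite K(p, k) N]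
variable {τ : K(p, k) →+* K(p, k)}

theorem span_fixed_pos (hn : 0 < n) (hτ : ∀ w, τ (am w) = am (σ w)) (hσ : ∀ w, cc (σ w) = cc w ^ p ^ n)
    (G : N →ₛₗ[τ] N) (M : Submodule W N) [M.IsLattice K(p, k)] (hP : ⇑G '' (M : Set N) = M) :
    Submodule.span K(p, k) {v : N | G v = v} = ⊤ := by
  set d := finrank K(p, k) N
  have hmaps : ∀ x ∈ M, G x ∈ M := fun x hx => by
    have : G x ∈ ⇑G '' (M : Set N) := ⟨x, hx, rfl⟩
    rwa [hP] at this
  let A : Matrix (Fin d) (Fin d) W := Matrix.of fun i j => (lbasis M).repr ⟨G (Lb M j), hmaps _ (Lb_mem M j)⟩ i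
  have hA : ∀ i j, (Lb M).repr (G (Lb M j)) i = am (A i j) := fun i j =>
    Lb_repr M ⟨G (Lb M j), hmaps _ (Lb_mem M j)⟩ i
  have hG : ∀ (x : Fin d → W), G (∑ j, am (x j) • Lb M j) = ∑ i, am (A.mulVec (fun j => σ (x j)) i) • Lb M i := by
    intro x
    refine (Lb M).ext_elem fun i => ?_
    rw [show (Lb M).repr (∑ i, am (A.mulVec (fun j => σ (x j)) i) • Lb M i) i =
      am (A.mulVec (fun j => σ (x j)) i) from congrFun ((Lb M).repr_sum_self _) i, map_sum, map_sum,
      Finsupp.finsetSum_apply, Matrix.mulVec, dotProduct, map_sum]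
    refine Finset.sum_congr rfl fun j _ => ?_
    rw [map_smulₛₗ, map_smul, Finsupp.smul_apply, smul_eq_mul, hA, hτ, map_mul, mul_comm]
  have hspan : Submodule.span k (Set.range ⇑(resMap (p := p) n (A.map cc))) = ⊤ := by
    rw [eq_top_iff, ← (Pi.basisFun k (Fin d)).span_eq, Submodule.span_le]
    rintro _ ⟨i, rfl⟩
    have hi : Lb M i ∈ ⇑G '' (M : Set N) := by rw [hP]; exact Lb_mem M i
    obtain ⟨z, hz, hzi⟩ := hi
    choose c hc using (mem_iff_repr M z).1 hz
    have hz' : z = ∑ j, am (c j) • Lb M j := by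
      conv_lhs => rw [← (Lb M).sum_repr z]
      simp only [hc]
    rw [hz', hG] at hzi
    refine Submodule.subset_span ⟨fun j => cc (c j), ?_⟩
    rw [← cc_mulVec hσ A c, Pi.basisFun_apply]
    funext l
    have := congrArg (fun v => (Lb M).repr v l) hzi
    simp only [Basis.repr_self, Finsupp.single_apply] at this
    rw [show (Lb M).repr (∑ i, am (A.mulVec (fun j => σ (c j)) i) • Lb M i) l =
      am (A.mulVec (fun j => σ (c j)) l) from congrFun ((Lb M).repr_sum_self _) l] at this
    rw [Pi.single_apply]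
    rcases eq_or_ne i l with rfl | hne
    · rw [if_pos rfl] at this
      rw [IsFractionRing.injective W K(p, k) (this.trans (map_one am).symm)]
      simp
    · rw [if_neg hne] at this
      rw [IsFractionRing.injective W K(p, k) (this.trans (map_zero am).symm), if_neg hne.symm, map_zero]
  obtain ⟨b, hb⟩ := SigmaLinLib.exists_basis_fixed (resMap (p := p) n (A.map cc)) hspan
    (SigmaLinLib.cond2_frobenius k p n hn) (SigmaLinLib.cond3_frobenius k p n hn)
  let bk : Basis (Fin d) k (Fin d → k) := b.reindex (finCongr (Module.finrank_fin_fun k))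
  choose x hx hxb using fun i => exists_lift_fixed hn hσ A (bk i) (by simp [bk, hb])
  have hfix : ∀ i, G (∑ j, am (x i j) • Lb M j) = ∑ j, am (x i j) • Lb M j := fun i => by rw [hG, hx]
  let P : Matrix (Fin d) (Fin d) W := Matrix.of fun j i => x i j
  have hdet : cc P.det ≠ 0 := by
    rw [RingHom.map_det, RingHom.mapMatrix_apply]
    have : P.map cc = (Pi.basisFun k (Fin d)).toMatrix bk := by
      refine Matrix.ext fun j i => ?_
      simp [P, Basis.toMatrix_apply, hxb]
    rw [this]
    have h1 := congrArg Matrix.det ((Pi.basisFun k (Fin d)).toMatrix_mul_toMatrix_flip bk)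
    rw [Matrix.det_mul, Matrix.det_one] at h1
    exact left_ne_zero_of_mul_eq_one h1
  have hunit : IsUnit (P.map am).det := by
    rw [← RingHom.mapMatrix_apply, ← RingHom.map_det, isUnit_iff_ne_zero, ne_eq,
      map_eq_zero_iff _ (IsFractionRing.injective W K(p, k))]
    intro h0
    exact hdet (by rw [h0, map_zero])
  rw [eq_top_iff, ← (Lb M).span_eq, Submodule.span_le]
  rintro _ ⟨l, rfl⟩
  have hl : Lb M l = ∑ i, (P.map am)⁻¹ i l • ∑ j, am (x i j) • Lb M j := by
    simp only [Finset.smul_sum, smul_smul]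
    rw [Finset.sum_comm]
    simp only [← Finset.sum_smul]
    refine (Lb M).ext_elem fun j => ?_
    rw [show (Lb M).repr (∑ j, (∑ i, (P.map am)⁻¹ i l * am (x i j)) • Lb M j) j =
      ∑ i, (P.map am)⁻¹ i l * am (x i j) from congrFun ((Lb M).repr_sum_self _) j,
      Basis.repr_self, Finsupp.single_apply]
    have h2 := congrFun (congrFun (Matrix.mul_nonsing_inv _ hunit) j) l
    rw [Matrix.mul_apply, Matrix.one_apply] at h2
    simp only [Matrix.map_apply, P, Matrix.of_apply] at h2
    simp only [mul_comm ((P.map am)⁻¹ _ l)]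
    rw [h2]
    simp only [eq_comm]
  rw [hl]
  exact Submodule.sum_mem _ fun i _ => Submodule.smul_mem _ _ (Submodule.subset_span (hfix i))

omit [IsAlgClosed k] in
theorem cc_frobeniusEquiv_pow : ∀ (n : ℕ) (w : W),
    cc ((WittVector.frobeniusEquiv p k ^ (n : ℤ)) w) = cc w ^ p ^ n := by
  intro n
  induction n with
  | zero => intro w; simp
  | succ n ih =>
    intro w
    rw [zpow_natCast, pow_succ, ← zpow_natCast]
    show cc ((WittVector.frobeniusEquiv p k ^ (n : ℤ)) (WittVector.frobenius w)) = _
    rw [ih, show cc (WittVector.frobenius w) = cc w ^ p from WittVector.coeff_frobenius_charP p w 0, ← pow_mul,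
      pow_succ']

/-- A lattice carried onto itself by a map with twist `σ^z`, `z ≠ 0`, spans with its fixed vectors. -/
theorem span_fixed {z : ℤ} (hz : z ≠ 0)
    (hτ : ∀ w, τ (am w) = am ((WittVector.frobeniusEquiv p k ^ z) w)) (G : N →ₛₗ[τ] N)
    (M : Submodule W N) [M.IsLattice K(p, k)] (hP : ⇑G '' (M : Set N) = M) :
    Submodule.span K(p, k) {v : N | G v = v} = ⊤ := by
  obtain ⟨n, rfl | rfl⟩ := Int.eq_nat_or_neg z
  · exact span_fixed_pos (by omega) hτ (cc_frobeniusEquiv_pow n) G M hP
  · have hT : Tw τ := ⟨_, hτ⟩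
    have hGs : Function.Surjective G := fun y => by
      obtain ⟨t, ht⟩ := exists_nat_smul_mem M y
      have : (p : K(p, k)) ^ (t : ℤ) • y ∈ ⇑G '' (M : Set N) := by rw [hP]; exact ht
      obtain ⟨x, -, hx⟩ := this
      exact ⟨((p : K(p, k)) ^ (t : ℤ))⁻¹ • x, by
        rw [map_smulₛₗ, map_inv₀, map_zpow_p, hx, inv_smul_smul₀ (zpow_p_ne_zero _)]⟩
    let E := Equiv.ofBijective G (bijective_of_surjective hT hGs)
    let G' : N →ₛₗ[Isoc.frob p k n] N :=
      { toFun := E.symm
        map_add' := fun x y => E.injective (by simp [E, map_add, Equiv.ofBijective_apply_symm_apply])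
        map_smul' := fun c x => by
          refine E.injective ?_
          show G (E.symm (c • x)) = G (Isoc.frob p k n c • E.symm x)
          rw [show G (E.symm (c • x)) = c • x from E.apply_symm_apply _, G.map_smulₛₗ,
            show G (E.symm x) = x from E.apply_symm_apply x]
          obtain ⟨a, b, -, rfl⟩ := IsFractionRing.div_surjective (A := W) c
          rw [map_div₀, map_div₀, Isoc.frob_algebraMap, Isoc.frob_algebraMap, hτ, hτ,
            show ∀ w, (WittVector.frobeniusEquiv p k ^ (-(n : ℤ))) ((WittVector.frobeniusEquiv p k ^ (n : ℤ)) w) = w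
              from fun w => by rw [zpow_neg]; exact RingEquiv.symm_apply_apply _ w,
            show ∀ w, (WittVector.frobeniusEquiv p k ^ (-(n : ℤ))) ((WittVector.frobeniusEquiv p k ^ (n : ℤ)) w) = w
              from fun w => by rw [zpow_neg]; exact RingEquiv.symm_apply_apply _ w] }
    have hP' : ⇑G' '' (M : Set N) = M := by
      conv_lhs => rw [← hP, Set.image_image]
      exact (Set.image_congr fun x _ => E.symm_apply_apply x).trans (Set.image_id _)
    have hfix : {v : N | G v = v} = {v : N | G' v = v} := Set.ext fun v =>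
      ⟨fun hv => E.injective ((E.apply_symm_apply v).trans (hv : G v = v).symm), fun hv => by
        show G v = v
        conv_lhs => rw [← (hv : G' v = v)]
        exact E.apply_symm_apply v⟩
    rw [hfix]
    exact span_fixed_pos (by omega) (Isoc.frob_algebraMap p k n) (cc_frobeniusEquiv_pow n) G' M hP'

omit [IsAlgClosed k] in
theorem frob_pow_algebraMap (a : ℤ) : ∀ (s : ℕ) (w : W),
    (Isoc.frob p k a ^ s) (am w) = am ((WittVector.frobeniusEquiv p k ^ (a * s)) w)
  | 0, w => by simp
  | s + 1, w => by
    rw [pow_succ, RingHom.coe_mul, Function.comp_apply, Isoc.frob_algebraMap, frob_pow_algebraMap a s,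
      show a * ((s + 1 : ℕ) : ℤ) = a * (s : ℤ) + a by push_cast; ring, zpow_add]
    rfl

end Groth.Agent.IsocLib
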