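import Groth.Agent.Lib.Isoc.Stmt
import Mathlib.LinearAlgebra.Dimension.OrzechProperty
import Mathlib.Order.CompactlyGenerated.Basic
import Mathlib.RingTheory.Finiteness.Prod

/-!
Isoclinic isocrystals; the slope parts.
-/

noncomputable section

open scoped Isocrystal Pointwise
open Module

universe u v w

set_option linter.unusedSectionVars false

namespace Groth.Agent.IsocLib

variable {p : ℕ} [Fact p.Prime] {k : Type u} [Field k] [CharP k p] [PerfectRing k p]

local notation "W" => WittVector p k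

variable {N : Type v} [AddCommGroup N] [Module (WittVector p k) N] [Module K(p, k) N]
  [IsScalarTower (WittVector p k) K(p, k) N]
variable {N' : Type w} [AddCommGroup N'] [Module (WittVector p k) N'] [Module K(p, k) N']
  [IsScalarTower (WittVector p k) K(p, k) N']
variable {τ : K(p, k) →+* K(p, k)} {F : N →ₛₗ[τ] N} {F' : N' →ₛₗ[τ] N'}

/-! ### Bijectivity -/

theorem Tw.span_range_map (h : Tw τ) {ι : Type*} [Fintype ι] (b : Basis ι K(p, k) N) (G : N →ₛₗ[τ] N')
    (x : N) : G x ∈ Submodule.span K(p, k) (Set.range fun i => G (b i)) := by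
  rw [← b.sum_repr x, map_sum]
  exact Submodule.sum_mem _ fun i _ => by
    rw [map_smulₛₗ]; exact Submodule.smul_mem _ _ (Submodule.subset_span ⟨i, rfl⟩)

theorem bijective_of_surjective [Module.Finite K(p, k) N] (h : Tw τ) (hs : Function.Surjective F) :
    Function.Bijective F := by
  refine ⟨(injective_iff_map_eq_zero F).2 fun x hx => ?_, hs⟩
  let b := Module.finBasis K(p, k) N
  have hspan : ⊤ ≤ Submodule.span K(p, k) (Set.range fun i => F (b i)) := fun y _ => by
    obtain ⟨z, rfl⟩ := hs y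
    exact h.span_range_map b F z
  have hli : LinearIndependent K(p, k) fun i => F (b i) :=
    linearIndependent_of_top_le_span_of_card_eq_finrank hspan (by simp)
  refine b.ext_elem fun i => ?_
  rw [map_zero, Finsupp.zero_apply]
  have hsum : ∑ l, τ (b.repr x l) • F (b l) = 0 := by
    rw [← hx]
    conv_rhs => rw [← b.sum_repr x, map_sum]
    simp only [map_smulₛₗ]
  have := Fintype.linearIndependent_iff.1 hli _ hsum i
  exact (map_eq_zero τ).1 this

theorem bijective_of_injective [Module.Finite K(p, k) N] (h : Tw τ) (hi : Function.Injective F) :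
    Function.Bijective F := by
  refine ⟨hi, fun y => ?_⟩
  let b := Module.finBasis K(p, k) N
  have hli : LinearIndependent K(p, k) fun i => F (b i) := by
    rw [Fintype.linearIndependent_iff]
    intro c hc
    choose c' hc' using fun i => h.surjective (c i)
    have h0 : F (∑ i, c' i • b i) = 0 := by
      rw [map_sum, ← hc]
      simp only [map_smulₛₗ, hc']
    have := (injective_iff_map_eq_zero F).1 hi _ h0
    intro i
    rw [← hc' i, Fintype.linearIndependent_iff.1 b.linearIndependent c' this i, map_zero]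
  have hy : y ∈ Submodule.span K(p, k) (Set.range fun i => F (b i)) := by
    rw [hli.span_eq_top_of_card_eq_finrank' (by simp)]; trivial
  refine Submodule.span_induction (fun z hz => ?_) ⟨0, map_zero F⟩
    (fun a b _ _ ⟨a', ha⟩ ⟨b', hb⟩ => ⟨a' + b', by rw [map_add, ha, hb]⟩)
    (fun c a _ ⟨a', ha⟩ => ?_) hy
  · obtain ⟨i, rfl⟩ := hz
    exact ⟨b i, rfl⟩
  · obtain ⟨c', hc'⟩ := h.surjective c
    exact ⟨c' • a', by rw [map_smulₛₗ, hc', ha]⟩

/-! ### Pure lattices -/

/-- `p⁻ʳ F^s` carries `M` onto itself. -/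
def Pure (M : Submodule (WittVector p k) N) (F : N →ₛₗ[τ] N) (r : ℤ) (s : ℕ) : Prop :=
  ⇑(sc F (-r) s) '' (M : Set N) = M

theorem pure_iff (h : Tw τ) {M : Submodule W N} {r : ℤ} {s : ℕ} :
    Pure M F r s ↔ Isoc.latImg F s M = Isoc.pPow r M := by
  rw [latImg_eq, Pure, Set.ext_iff, SetLike.ext_iff]
  simp only [Set.mem_image, SetLike.mem_coe, mem_img (h.pow s), mem_pPow, sc_apply, Isoc.iter_apply]
  constructor <;> intro hh x
  · constructor
    · rintro ⟨y, hy, rfl⟩
      exact (hh _).1 ⟨y, hy, rfl⟩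
    · intro hx
      obtain ⟨y, hy, hyx⟩ := (hh _).2 hx
      exact ⟨y, hy, smul_right_injective N (zpow_p_ne_zero (-r)) hyx⟩
  · constructor
    · rintro ⟨y, hy, rfl⟩
      exact (hh _).1 ⟨y, hy, rfl⟩
    · intro hx
      obtain ⟨y, hy, hyx⟩ := (hh ((p : K(p, k)) ^ r • x)).2 (by
        rwa [smul_smul, ← zpow_add₀ p_ne_zero, neg_add_cancel, zpow_zero, one_smul])
      refine ⟨y, hy, ?_⟩
      rw [hyx, smul_smul, ← zpow_add₀ p_ne_zero, neg_add_cancel, zpow_zero, one_smul]

theorem isIsoclinic_iff (h : Tw τ) {μ : ℚ} : Isoc.IsIsoclinic F μ ↔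
    ∃ M : Submodule W N, M.IsLattice K(p, k) ∧ ∃ (r : ℤ) (s : ℕ), 0 < s ∧ (r : ℚ) / s = μ ∧ Pure M F r s := by
  simp only [Isoc.IsIsoclinic, pure_iff h]

theorem Pure.iterate {M : Submodule W N} {r : ℤ} {s : ℕ} (hP : Pure M F r s) (j : ℕ) :
    (⇑(sc F (-r) s))^[j] '' (M : Set N) = M := by
  induction j with
  | zero => simp
  | succ j ih => rw [Function.iterate_succ', Set.image_comp, ih]; exact hP

theorem Pure.mul {M : Submodule W N} {r : ℤ} {s : ℕ} (hP : Pure M F r s) (j : ℕ) :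
    Pure M F (r * j) (s * j) := by
  rw [Pure, show ⇑(sc F (-(r * j)) (s * j)) = (⇑(sc F (-r) s))^[j] from funext fun x => by
    rw [sc_iterate, sc_apply, neg_mul]]
  exact hP.iterate j

theorem exists_common (h : Tw τ) {μ μ' : ℚ} (hF : Isoc.IsIsoclinic F μ) (hF' : Isoc.IsIsoclinic F' μ') :
    ∃ (M : Submodule W N) (M' : Submodule W N') (r r' : ℤ) (s : ℕ),
      M.IsLattice K(p, k) ∧ M'.IsLattice K(p, k) ∧ 0 < s ∧ (r : ℚ) / s = μ ∧ (r' : ℚ) / s = μ' ∧
      Pure M F r s ∧ Pure M' F' r' s := by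
  obtain ⟨M, hM, r, s, hs, hrs, hP⟩ := (isIsoclinic_iff h).1 hF
  obtain ⟨M', hM', r', s', hs', hrs', hP'⟩ := (isIsoclinic_iff h).1 hF'
  refine ⟨M, M', r * s', r' * s, s * s', hM, hM', Nat.mul_pos hs hs', ?_, ?_, hP.mul s', ?_⟩
  · rw [← hrs]
    have : (s : ℚ) ≠ 0 := by exact_mod_cast hs.ne'
    have : (s' : ℚ) ≠ 0 := by exact_mod_cast hs'.ne'
    push_cast
    field_simp
  · rw [← hrs']
    have : (s : ℚ) ≠ 0 := by exact_mod_cast hs.ne'
    have : (s' : ℚ) ≠ 0 := by exact_mod_cast hs'.ne'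
    push_cast
    field_simp
  · rw [Nat.mul_comm]
    exact hP'.mul s

/-! ### Functoriality -/

theorem semiconj_sc {f : N →ₗ[K(p, k)] N'} (hf : ∀ x, f (F x) = F' (f x)) (m : ℤ) (s : ℕ) (x : N) :
    f (sc F m s x) = sc F' m s (f x) := by
  rw [sc_apply, sc_apply, map_smul]
  congr 1
  exact (Function.Semiconj.iterate_right (f := ⇑f) hf s) x

theorem isIsoclinic_of_surjective (h : Tw τ) {μ : ℚ} (hI : Isoc.IsIsoclinic F μ) (f : N →ₗ[K(p, k)] N')
    (hf : ∀ x, f (F x) = F' (f x)) (hs : Function.Surjective f) : Isoc.IsIsoclinic F' μ := by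
  obtain ⟨M, hM, r, s, hs0, hrs, hP⟩ := (isIsoclinic_iff h).1 hI
  refine (isIsoclinic_iff h).2 ⟨M.map (f.restrictScalars W), ⟨hM.fg.map _, ?_⟩, r, s, hs0, hrs, ?_⟩
  · rw [Submodule.map_coe, LinearMap.coe_restrictScalars, Submodule.span_image, hM.span_eq_top,
      Submodule.map_top, LinearMap.range_eq_top.2 hs]
  · rw [Pure, Submodule.map_coe, LinearMap.coe_restrictScalars, Set.image_image]
    conv_rhs => rw [← hP, Set.image_image]
    exact Set.image_congr fun x _ => (semiconj_sc hf _ _ x).symm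

theorem isIsoclinic_of_injective (h : Tw τ) [Module.Finite K(p, k) N] {μ : ℚ} (hF : Function.Injective F)
    (hI : Isoc.IsIsoclinic F μ) (f : N' →ₗ[K(p, k)] N) (hf : ∀ x, f (F' x) = F (f x))
    (hi : Function.Injective f) : Isoc.IsIsoclinic F' μ := by
  have : Module.Finite K(p, k) N' := Module.Finite.of_injective f hi
  have hF' : Function.Bijective F' := bijective_of_injective h fun x y hxy =>
    hi (hF (by rw [← hf, ← hf, hxy]))
  obtain ⟨M, hM, r, s, hs0, hrs, hP⟩ := (isIsoclinic_iff h).1 hI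
  let M' : Submodule W N' := M.comap (f.restrictScalars W)
  have hfg : M'.FG := by
    have hn : IsNoetherian W M := isNoetherian_of_fg_of_noetherian M hM.fg
    exact Submodule.fg_of_fg_map_injective (f.restrictScalars W) hi
      (isNoetherian_submodule.1 hn _ (Submodule.map_comap_le (f.restrictScalars W) M))
  refine (isIsoclinic_iff h).2 ⟨M', ⟨hfg, ?_⟩, r, s, hs0, hrs, ?_⟩
  · rw [eq_top_iff]
    intro y _
    obtain ⟨n, hn⟩ := exists_nat_smul_mem M (f y)
    have hy : (p : K(p, k)) ^ (n : ℤ) • y ∈ Submodule.span K(p, k) (M' : Set N') :=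
      Submodule.subset_span (by
        show f _ ∈ M
        rwa [map_smul])
    have := Submodule.smul_mem _ ((p : K(p, k)) ^ (n : ℤ))⁻¹ hy
    rwa [inv_smul_smul₀ (zpow_p_ne_zero _)] at this
  · rw [Pure]
    ext y
    constructor
    · rintro ⟨x, hx, rfl⟩
      show f _ ∈ (M : Set N)
      rw [semiconj_sc hf, ← hP]
      exact ⟨f x, hx, rfl⟩
    · intro hy
      obtain ⟨x, rfl⟩ := (bijective_sc hF' (-r) s).2 y
      refine ⟨x, ?_, rfl⟩
      have hy' : f (sc F' (-r) s x) ∈ (M : Set N) := hy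
      rw [semiconj_sc hf, ← hP] at hy'
      obtain ⟨z, hz, hzx⟩ := hy'
      have hFb : Function.Bijective F := bijective_of_injective h hF
      rw [(bijective_sc hFb (-r) s).1 hzx] at hz
      exact hz

theorem hom_eq_zero (h : Tw τ) [Module.Finite K(p, k) N'] (hF' : Function.Bijective F') {μ μ' : ℚ} (hI : Isoc.IsIsoclinic F μ)
    (hI' : Isoc.IsIsoclinic F' μ') (hne : μ ≠ μ') (f : N →ₗ[K(p, k)] N') (hf : ∀ x, f (F x) = F' (f x)) :
    f = 0 := by
  obtain ⟨M, M', r, r', s, hM, hM', hs, hrs, hrs', hP, hP'⟩ := exists_common h hI hI'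
  have hr : r ≠ r' := fun e => hne (by rw [← hrs, ← hrs', e])
  obtain ⟨c, hc⟩ := exists_le_pPow (hM.fg.map (f.restrictScalars W)) M'
  have hc' : ∀ x ∈ M, (p : K(p, k)) ^ (c : ℤ) • f x ∈ M' := fun x hx => by
    simpa using mem_pPow.1 (hc ⟨x, hx, rfl⟩)
  have hG : ∀ (n : ℕ) (z : N'), (⇑(sc F' (-r) s))^[n] z =
      (p : K(p, k)) ^ ((r' - r) * n) • (⇑(sc F' (-r') s))^[n] z := fun n z => by
    rw [sc_iterate, sc_iterate, smul_smul, ← zpow_add₀ p_ne_zero]
    congr 2
    ring
  have hsemi : ∀ (n : ℕ) (x : N), f ((⇑(sc F (-r) s))^[n] x) = (⇑(sc F' (-r) s))^[n] (f x) := fun n x =>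
    (Function.Semiconj.iterate_right (f := ⇑f) (semiconj_sc hf (-r) s) n) x
  have key : ∀ x ∈ M, ∀ j : ℕ, f x ∈ Isoc.pPow (j : ℤ) M' := by
    intro x hx j
    rcases lt_or_gt_of_ne hr with hlt | hlt
    · have hn : (j : ℤ) ≤ (r' - r) * (j + c : ℕ) - c := by push_cast; nlinarith
      obtain ⟨y, hy, rfl⟩ : x ∈ (⇑(sc F (-r) s))^[j + c] '' (M : Set N) := by rw [hP.iterate]; exact hx
      have h1 : (⇑(sc F' (-r') s))^[j + c] ((p : K(p, k)) ^ (c : ℤ) • f y) ∈ (M' : Set N') := by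
        rw [← hP'.iterate (j + c)]; exact ⟨_, hc' y hy, rfl⟩
      rw [iterate_zpow_smul_pow] at h1
      refine pPow_anti hn M' ?_
      rw [hsemi, hG, mem_pPow, smul_smul, ← zpow_add₀ p_ne_zero,
        show -((r' - r) * (j + c : ℕ) - c) + (r' - r) * (j + c : ℕ) = (c : ℤ) by ring]
      exact h1
    · have hn : (j : ℤ) ≤ (r - r') * (j + c : ℕ) - c := by push_cast; nlinarith
      have hx' : (⇑(sc F (-r) s))^[j + c] x ∈ (M : Set N) := by rw [← hP.iterate (j + c)]; exact ⟨x, hx, rfl⟩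
      have h1 : (p : K(p, k)) ^ (c : ℤ) • (⇑(sc F' (-r) s))^[j + c] (f x) ∈ (M' : Set N') := by
        rw [← hsemi]; exact hc' _ hx'
      rw [hG, smul_smul, ← zpow_add₀ p_ne_zero, ← iterate_zpow_smul_pow, ← hP'.iterate (j + c)] at h1
      obtain ⟨z, hz, hzx⟩ := h1
      rw [((bijective_sc hF' (-r') s).1.iterate (j + c)) hzx] at hz
      refine pPow_anti hn M' ?_
      rw [mem_pPow]
      rw [show -((r - r') * (j + c : ℕ) - c) = (c : ℤ) + (r' - r) * (j + c : ℕ) by ring]
      exact hz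
  have h0 : ∀ x ∈ Submodule.span K(p, k) (M : Set N), f x = 0 := fun x hx => by
    refine Submodule.span_induction (fun y hy => eq_zero_of_forall_mem_pPow M' (key y hy)) (map_zero f)
      (fun a b _ _ ha hb => by rw [map_add, ha, hb, add_zero]) (fun c a _ ha => by rw [map_smul, ha, smul_zero]) hx
  exact LinearMap.ext fun x => h0 x (by rw [hM.span_eq_top]; trivial)
where
  iterate_zpow_smul_pow {G : Type w} [AddCommGroup G] [Module (WittVector p k) G] [Module K(p, k) G]
      [IsScalarTower (WittVector p k) K(p, k) G] {σ : K(p, k) →+* K(p, k)} {Φ : G →ₛₗ[σ] G} {n : ℕ} {r : ℤ}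
      {x : G} : (⇑Φ)^[n] ((p : K(p, k)) ^ r • x) = (p : K(p, k)) ^ r • (⇑Φ)^[n] x :=
    iterate_zpow_smul Φ n r x

/-! ### Products and sums -/

/-- The product of two semilinear maps. -/
def prodF (F : N →ₛₗ[τ] N) (F' : N' →ₛₗ[τ] N') : (N × N') →ₛₗ[τ] (N × N') where
  toFun x := (F x.1, F' x.2)
  map_add' x y := by simp
  map_smul' c x := by simp

theorem isIsoclinic_prod (h : Tw τ) {μ : ℚ} (hI : Isoc.IsIsoclinic F μ) (hI' : Isoc.IsIsoclinic F' μ) :
    Isoc.IsIsoclinic (prodF F F') μ := by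
  obtain ⟨M, M', r, r', s, hM, hM', hs, hrs, hrs', hP, hP'⟩ := exists_common h hI hI'
  obtain rfl : r = r' := by
    have := hrs.trans hrs'.symm
    rw [div_left_inj' (by exact_mod_cast hs.ne')] at this
    exact_mod_cast this
  refine (isIsoclinic_iff h).2 ⟨M.prod M', ⟨Submodule.FG.prod hM.fg hM'.fg, ?_⟩, r, s, hs, hrs, ?_⟩
  · rw [eq_top_iff]
    rintro ⟨a, b⟩ -
    have ha : (a, (0 : N')) ∈ Submodule.span K(p, k) ((M.prod M' : Submodule W (N × N')) : Set (N × N')) := by
      have : a ∈ Submodule.span K(p, k) (M : Set N) := by rw [hM.span_eq_top]; trivial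
      have := Submodule.mem_map_of_mem (f := LinearMap.inl K(p, k) N N') this
      rw [Submodule.map_span] at this
      refine Submodule.span_mono ?_ this
      rintro _ ⟨x, hx, rfl⟩
      exact ⟨hx, M'.zero_mem⟩
    have hb : ((0 : N), b) ∈ Submodule.span K(p, k) ((M.prod M' : Submodule W (N × N')) : Set (N × N')) := by
      have : b ∈ Submodule.span K(p, k) (M' : Set N') := by rw [hM'.span_eq_top]; trivial
      have := Submodule.mem_map_of_mem (f := LinearMap.inr K(p, k) N N') this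
      rw [Submodule.map_span] at this
      refine Submodule.span_mono ?_ this
      rintro _ ⟨x, hx, rfl⟩
      exact ⟨M.zero_mem, hx⟩
    simpa using add_mem ha hb
  · have he : ⇑(sc (prodF F F') (-r) s) = Prod.map (sc F (-r) s) (sc F' (-r) s) := funext fun x => by
      rw [sc_apply, show ⇑(prodF F F') = Prod.map F F' from rfl, Prod.map_iterate]
      rfl
    rw [Pure, he, Submodule.prod_coe, Set.prodMap_image_prod, hP, hP']

theorem isIsoclinic_bot (h : Tw τ) [Subsingleton N] (μ : ℚ) : Isoc.IsIsoclinic F μ := by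
  refine (isIsoclinic_iff h).2 ⟨⊥, ⟨Submodule.fg_bot, Subsingleton.elim _ _⟩, μ.num, μ.den, μ.den_pos,
    Rat.num_div_den μ, ?_⟩
  exact Set.ext fun x => by
    constructor
    · intro _; exact Submodule.mem_bot _ |>.2 (Subsingleton.elim _ _)
    · intro _; exact ⟨x, Submodule.mem_bot _ |>.2 (Subsingleton.elim _ _), Subsingleton.elim _ _⟩

/-- The stable isoclinic subspaces of slope `μ`. -/
def isoSet (F : N →ₛₗ[τ] N) (μ : ℚ) : Set (Submodule K(p, k) N) :=
  {P | ∃ hP : ∀ x ∈ P, F x ∈ P, Isoc.IsIsoclinic (F.restrict hP) μ}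

theorem bot_mem_isoSet (h : Tw τ) (μ : ℚ) : ⊥ ∈ isoSet F μ :=
  ⟨fun x hx => by rw [(Submodule.mem_bot _).1 hx, map_zero]; exact zero_mem _, isIsoclinic_bot h μ⟩

theorem sup_mem_isoSet (h : Tw τ) {μ : ℚ} {P Q : Submodule K(p, k) N} (hP : P ∈ isoSet F μ)
    (hQ : Q ∈ isoSet F μ) : P ⊔ Q ∈ isoSet F μ := by
  obtain ⟨hPs, hPi⟩ := hP
  obtain ⟨hQs, hQi⟩ := hQ
  have hs : ∀ x ∈ P ⊔ Q, F x ∈ P ⊔ Q := fun x hx => by
    obtain ⟨a, ha, b, hb, rfl⟩ := Submodule.mem_sup.1 hx
    rw [map_add]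
    exact Submodule.add_mem_sup (hPs a ha) (hQs b hb)
  refine ⟨hs, isIsoclinic_of_surjective h (isIsoclinic_prod h hPi hQi)
    ((Submodule.inclusion (le_sup_left : P ≤ P ⊔ Q)).coprod (Submodule.inclusion le_sup_right)) ?_ ?_⟩
  · rintro ⟨x, y⟩
    exact Subtype.ext (by simp [prodF])
  · rintro ⟨z, hz⟩
    obtain ⟨a, ha, b, hb, rfl⟩ := Submodule.mem_sup.1 hz
    exact ⟨(⟨a, ha⟩, ⟨b, hb⟩), Subtype.ext (by simp)⟩

theorem slopePart_mem (h : Tw τ) [Module.Finite K(p, k) N] (μ : ℚ) : Isoc.slopePart F μ ∈ isoSet F μ := by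
  obtain ⟨P, hP, hmax⟩ := WellFounded.has_min
    (wellFounded_gt (α := Submodule K(p, k) N)) (isoSet F μ) ⟨⊥, bot_mem_isoSet h μ⟩
  have : Isoc.slopePart F μ = P := by
    refine le_antisymm (sSup_le fun Q hQ => ?_) (le_sSup hP)
    have hsup := sup_mem_isoSet h hP hQ
    have := (le_sup_left : P ≤ P ⊔ Q).eq_of_not_lt (hmax _ hsup)
    exact this ▸ le_sup_right
  rwa [this]

theorem le_slopePart {μ : ℚ} {P : Submodule K(p, k) N} (hP : P ∈ isoSet F μ) : P ≤ Isoc.slopePart F μ :=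
  le_sSup hP

theorem slopePart_stable (h : Tw τ) [Module.Finite K(p, k) N] (μ : ℚ) :
    ∀ x ∈ Isoc.slopePart F μ, F x ∈ Isoc.slopePart F μ :=
  (slopePart_mem h μ).1

/-- A stable subspace of an isoclinic stable subspace of another slope is zero modulo a stable subspace. -/
theorem disjoint_finset (h : Tw τ) [Module.Finite K(p, k) N] (hF : Function.Injective F) (s : Finset ℚ) :
    ∀ μ ∉ s, Isoc.slopePart F μ ⊓ s.sup (fun ν => Isoc.slopePart F ν) = ⊥ := by
  classical
  induction s using Finset.induction_on with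
  | empty => simp
  | insert ν s hν ih =>
    intro μ hμ
    rw [Finset.mem_insert, not_or] at hμ
    rw [Finset.sup_insert]
    set T := s.sup (fun ν => Isoc.slopePart F ν)
    have hT : ∀ x ∈ T, F x ∈ T := by
      have : T ≤ Submodule.comap F T := Finset.sup_le fun i hi x hx =>
        (Finset.le_sup (f := fun ν => Isoc.slopePart F ν) hi) (slopePart_stable h i x hx)
      exact fun x hx => this hx
    obtain ⟨hμs, hμi⟩ := slopePart_mem (F := F) h μ
    obtain ⟨hνs, hνi⟩ := slopePart_mem (F := F) h ν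
    set Pμ := Isoc.slopePart F μ
    set Pν := Isoc.slopePart F ν
    let Q := Pμ ⊓ (Pν ⊔ T)
    have hQ : ∀ x ∈ Q, F x ∈ Q := fun x hx => ⟨hμs x hx.1, by
      obtain ⟨a, ha, b, hb, hab⟩ := Submodule.mem_sup.1 hx.2
      rw [← hab, map_add]
      exact Submodule.add_mem_sup (hνs a ha) (hT b hb)⟩
    have hQi : Isoc.IsIsoclinic (F.restrict hQ) μ :=
      isIsoclinic_of_injective h (fun a b hab => Subtype.ext (hF (congrArg Subtype.val hab))) hμi
        (Submodule.inclusion inf_le_left) (fun x => Subtype.ext rfl) (Submodule.inclusion_injective _)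
    let R := Pν.map T.mkQ
    let FQ : (N ⧸ T) →ₛₗ[τ] (N ⧸ T) := T.mapQ T F (fun x hx => hT x hx)
    have hR : ∀ x ∈ R, FQ x ∈ R := by
      rintro _ ⟨a, ha, rfl⟩
      exact ⟨F a, hνs a ha, rfl⟩
    have hRi : Isoc.IsIsoclinic (FQ.restrict hR) ν :=
      isIsoclinic_of_surjective h hνi ((T.mkQ.domRestrict Pν).codRestrict R fun x => ⟨x, x.2, rfl⟩)
        (fun x => Subtype.ext rfl) (by rintro ⟨_, a, ha, rfl⟩; exact ⟨⟨a, ha⟩, rfl⟩)
    have hRb : Function.Bijective (FQ.restrict hR) := by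
      refine bijective_of_surjective h ?_
      rintro ⟨_, a, ha, rfl⟩
      have hb : Function.Bijective (F.restrict hνs) :=
        bijective_of_injective h fun a b hab => Subtype.ext (hF (congrArg Subtype.val hab))
      obtain ⟨⟨b, hb'⟩, hba⟩ := hb.2 ⟨a, ha⟩
      refine ⟨⟨T.mkQ b, b, hb', rfl⟩, Subtype.ext ?_⟩
      exact congrArg T.mkQ (congrArg Subtype.val hba)
    let f : Q →ₗ[K(p, k)] R := (T.mkQ.domRestrict Q).codRestrict R fun x => by
      obtain ⟨a, ha, b, hb, hab⟩ := Submodule.mem_sup.1 x.2.2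
      refine ⟨a, ha, ?_⟩
      rw [LinearMap.domRestrict_apply, ← hab, map_add, show T.mkQ b = 0 from (Submodule.Quotient.mk_eq_zero _).2 hb,
        add_zero]
    have hf := hom_eq_zero h hRb hQi hRi hμ.1 f fun x => Subtype.ext rfl
    rw [eq_bot_iff]
    intro x hx
    have hxT : x ∈ T := (Submodule.Quotient.mk_eq_zero _).1
      (congrArg Subtype.val (LinearMap.congr_fun hf ⟨x, hx⟩))
    exact (ih μ hμ.2).le ⟨hx.1, hxT⟩

theorem iSupIndep_slopePart (h : Tw τ) [Module.Finite K(p, k) N] (hF : Function.Injective F) :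
    iSupIndep fun μ : ℚ => Isoc.slopePart F μ := by
  classical
  rw [iSupIndep_iff_supIndep]
  intro s
  rw [Finset.supIndep_iff_disjoint_erase]
  intro μ hμ
  exact disjoint_iff.2 (disjoint_finset h hF (s.erase μ) μ (Finset.notMem_erase μ s))

end Groth.Agent.IsocLib
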