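import Groth.Agent.Lib.Isoc.Val
import Mathlib.LinearAlgebra.Matrix.Basis
import Mathlib.LinearAlgebra.Matrix.NonsingularInverse
import Mathlib.LinearAlgebra.Dimension.Constructions

/-!
Lattices in vector spaces over the fraction field of the Witt vectors; degrees of semilinear maps.
-/

noncomputable section

open scoped Isocrystal Pointwise
open Module

universe u v w

set_option linter.unusedSectionVars false

namespace Groth.Agent.IsocLib

variable {p : ℕ} [Fact p.Prime] {k : Type u} [Field k] [CharP k p] [PerfectRing k p]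

local notation "W" => WittVector p k
local notation "am" => algebraMap (WittVector p k) (FractionRing (WittVector p k))

variable {N : Type v} [AddCommGroup N] [Module (WittVector p k) N] [Module K(p, k) N]
  [IsScalarTower (WittVector p k) K(p, k) N]
variable {N' : Type w} [AddCommGroup N'] [Module (WittVector p k) N'] [Module K(p, k) N']
  [IsScalarTower (WittVector p k) K(p, k) N']
variable {τ : K(p, k) →+* K(p, k)}

theorem w_smul (a : W) (x : N) : a • x = am a • x := (algebraMap_smul K(p, k) a x).symm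

theorem semilinear_w_smul (h : Tw τ) (G : N →ₛₗ[τ] N') (a : W) (x : N) :
    ∃ b : W, G (a • x) = b • G x := by
  obtain ⟨b, hb⟩ := h.map_mem a
  exact ⟨b, by rw [w_smul, map_smulₛₗ, hb, ← w_smul]⟩

/-! ### Powers of `p` -/

theorem mem_pPow {r : ℤ} {M : Submodule W N} {x : N} :
    x ∈ Isoc.pPow r M ↔ (p : K(p, k)) ^ (-r) • x ∈ M := by
  rw [Isoc.pPow]
  constructor
  · rintro ⟨y, hy, rfl⟩
    rw [show ((DistribSMul.toLinearMap W N ((p : K(p, k)) ^ r)) y) = (p : K(p, k)) ^ r • y from rfl,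
      smul_smul, ← zpow_add₀ p_ne_zero, neg_add_cancel, zpow_zero, one_smul]
    exact hy
  · intro hx
    refine ⟨_, hx, ?_⟩
    show (p : K(p, k)) ^ r • (p : K(p, k)) ^ (-r) • x = x
    rw [smul_smul, ← zpow_add₀ p_ne_zero, add_neg_cancel, zpow_zero, one_smul]

theorem natCast_zpow_smul_mem {M : Submodule W N} {x : N} (hx : x ∈ M) {n : ℤ} (hn : 0 ≤ n) :
    (p : K(p, k)) ^ n • x ∈ M := by
  obtain ⟨m, rfl⟩ := Int.eq_ofNat_of_zero_le hn
  rw [zpow_natCast, ← map_natCast am, ← map_pow, ← w_smul]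
  exact M.smul_mem _ hx

theorem pPow_zero (M : Submodule W N) : Isoc.pPow 0 M = M := by
  ext x; simp [mem_pPow]

theorem pPow_pPow (r s : ℤ) (M : Submodule W N) : Isoc.pPow r (Isoc.pPow s M) = Isoc.pPow (r + s) M := by
  ext x
  rw [mem_pPow, mem_pPow, mem_pPow, smul_smul, ← zpow_add₀ p_ne_zero, show -s + -r = -(r + s) by ring]

theorem pPow_anti {r s : ℤ} (h : r ≤ s) (M : Submodule W N) : Isoc.pPow s M ≤ Isoc.pPow r M := by
  intro x hx
  rw [mem_pPow] at hx ⊢
  rw [show -r = (s - r) + -s by ring, zpow_add₀ p_ne_zero, mul_smul]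
  exact natCast_zpow_smul_mem hx (by omega)

theorem pPow_mono (r : ℤ) {M M' : Submodule W N} (h : M ≤ M') : Isoc.pPow r M ≤ Isoc.pPow r M' :=
  fun x hx => mem_pPow.2 (h (mem_pPow.1 hx))

theorem isLattice_pPow (r : ℤ) (M : Submodule W N) [M.IsLattice K(p, k)] :
    (Isoc.pPow r M).IsLattice K(p, k) :=
  Submodule.IsLattice.smul K(p, k) M (Units.mk0 _ (zpow_p_ne_zero r))

theorem exists_lattice [Module.Finite K(p, k) N] : ∃ M : Submodule W N, M.IsLattice K(p, k) := by
  refine ⟨Submodule.span W (Set.range (Module.finBasis K(p, k) N)), ⟨Submodule.fg_span (Set.finite_range _), ?_⟩⟩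
  rw [Submodule.span_span_of_tower, Basis.span_eq]

theorem exists_nat_smul_mem (M : Submodule W N) [hM : M.IsLattice K(p, k)] (x : N) :
    ∃ n : ℕ, (p : K(p, k)) ^ (n : ℤ) • x ∈ M := by
  have hx : x ∈ Submodule.span K(p, k) (M : Set N) := by rw [hM.span_eq_top]; trivial
  suffices h : ∀ c : K(p, k), ∃ n : ℕ, (p : K(p, k)) ^ (n : ℤ) • c • x ∈ M by simpa using h 1
  refine Submodule.span_induction (p := fun x _ => ∀ c : K(p, k), ∃ n : ℕ, (p : K(p, k)) ^ (n : ℤ) • c • x ∈ M)
    (fun y hy c => ?_) (fun c => ⟨0, by simp⟩) (fun y z _ _ hy hz c => ?_)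
    (fun d y _ hy c => by rw [smul_smul c d]; exact hy _) hx
  · obtain ⟨n, w, hw⟩ := exists_zpow_smul_mem c
    refine ⟨n, ?_⟩
    rw [smul_smul, hw, ← w_smul]
    exact M.smul_mem _ hy
  · obtain ⟨n, hn⟩ := hy c
    obtain ⟨m, hm⟩ := hz c
    refine ⟨n + m, ?_⟩
    rw [smul_add, smul_add, Nat.cast_add, zpow_add₀ p_ne_zero, mul_smul, mul_smul]
    refine add_mem ?_ (natCast_zpow_smul_mem hm (Int.natCast_nonneg n))
    rw [← mul_smul, mul_comm, mul_smul]
    exact natCast_zpow_smul_mem hn (Int.natCast_nonneg m)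

theorem exists_le_pPow {M' : Submodule W N} (hfg : M'.FG) (M : Submodule W N) [M.IsLattice K(p, k)] :
    ∃ n : ℕ, M' ≤ Isoc.pPow (-(n : ℤ)) M := by
  classical
  obtain ⟨s, rfl⟩ := hfg
  choose f hf using exists_nat_smul_mem (p := p) (k := k) M
  refine ⟨∑ x ∈ s, f x, Submodule.span_le.2 fun x hx => ?_⟩
  rw [SetLike.mem_coe, mem_pPow, neg_neg]
  obtain ⟨m, hm⟩ : ∃ m, ∑ y ∈ s, f y = m + f x :=
    ⟨∑ y ∈ s.erase x, f y, (Finset.sum_erase_add _ _ hx).symm⟩
  rw [hm, Nat.cast_add, zpow_add₀ p_ne_zero, mul_smul]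
  exact natCast_zpow_smul_mem (hf x) (Int.natCast_nonneg m)

/-! ### Images -/

/-- The image of a submodule under a semilinear map. -/
def img (G : N →ₛₗ[τ] N') (M : Submodule W N) : Submodule W N' := Submodule.span W (G '' (M : Set N))

theorem mem_img (h : Tw τ) {G : N →ₛₗ[τ] N'} {M : Submodule W N} {y : N'} :
    y ∈ img G M ↔ ∃ x ∈ M, G x = y := by
  refine ⟨fun hy => ?_, fun ⟨x, hx, hxy⟩ => hxy ▸ Submodule.subset_span ⟨x, hx, rfl⟩⟩
  refine Submodule.span_induction ?_ ⟨0, M.zero_mem, map_zero G⟩ ?_ ?_ hy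
  · rintro _ ⟨x, hx, rfl⟩
    exact ⟨x, hx, rfl⟩
  · rintro _ _ _ _ ⟨x, hx, rfl⟩ ⟨y, hy, rfl⟩
    exact ⟨x + y, M.add_mem hx hy, map_add G x y⟩
  · rintro c _ _ ⟨x, hx, rfl⟩
    obtain ⟨b, hb⟩ := h.exists_preimage c
    exact ⟨b • x, M.smul_mem b hx, by rw [w_smul, map_smulₛₗ, hb, ← w_smul]⟩

theorem img_le_iff {G : N →ₛₗ[τ] N'} {M : Submodule W N} {M' : Submodule W N'} :
    img G M ≤ M' ↔ ∀ x ∈ M, G x ∈ M' := by
  rw [img, Submodule.span_le, Set.image_subset_iff]; rfl

theorem latImg_eq (F : N →ₛₗ[τ] N) (n : ℕ) (M : Submodule W N) :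
    Isoc.latImg F n M = img (Isoc.iter F n) M := rfl

theorem img_mono (G : N →ₛₗ[τ] N') {M M' : Submodule W N} (h : M ≤ M') : img G M ≤ img G M' :=
  Submodule.span_mono (Set.image_mono h)

theorem img_fg (h : Tw τ) (G : N →ₛₗ[τ] N') {M : Submodule W N} (hM : M.FG) : (img G M).FG := by
  classical
  obtain ⟨s, rfl⟩ := hM
  refine ⟨s.image G, le_antisymm ?_ ?_⟩
  · rw [Submodule.span_le, Finset.coe_image]
    rintro _ ⟨x, hx, rfl⟩
    exact Submodule.subset_span ⟨x, Submodule.subset_span hx, rfl⟩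
  · rw [img_le_iff]
    intro x hx
    refine Submodule.span_induction (fun y hy => Submodule.subset_span (by simpa using ⟨y, hy, rfl⟩)) (by simp)
      (fun y z _ _ hy hz => by rw [map_add]; exact add_mem hy hz) ?_ hx
    intro c y _ hy
    obtain ⟨b, hb⟩ := semilinear_w_smul h G c y
    rw [hb]
    exact Submodule.smul_mem _ b hy

theorem isLattice_img (h : Tw τ) (G : N →ₛₗ[τ] N') (hG : Function.Surjective G) (M : Submodule W N)
    [hM : M.IsLattice K(p, k)] : (img G M).IsLattice K(p, k) := by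
  refine ⟨img_fg h G hM.fg, ?_⟩
  rw [eq_top_iff]
  intro y _
  obtain ⟨x, rfl⟩ := hG y
  have hx : x ∈ Submodule.span K(p, k) (M : Set N) := by rw [hM.span_eq_top]; trivial
  refine Submodule.span_induction (fun z hz => Submodule.subset_span (Submodule.subset_span ⟨z, hz, rfl⟩)) (by simp)
    (fun a b _ _ ha hb => by rw [map_add]; exact add_mem ha hb)
    (fun c a _ ha => by rw [map_smulₛₗ]; exact Submodule.smul_mem _ _ ha) hx

/-! ### Matrices and degrees -/

/-- The matrix of a map in two bases. -/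
def fmat {ι ι' : Type*} (b : Basis ι K(p, k) N) (b' : Basis ι' K(p, k) N') (g : N → N') :
    Matrix ι' ι K(p, k) :=
  Matrix.of fun i j => b'.repr (g (b j)) i

theorem fmat_apply {ι ι' : Type*} (b : Basis ι K(p, k) N) (b' : Basis ι' K(p, k) N') (g : N → N') (i : ι') (j : ι) :
    fmat b b' g i j = b'.repr (g (b j)) i := rfl

theorem fmat_comp {N'' : Type*} [AddCommGroup N''] [Module K(p, k) N''] [Module W N''] [IsScalarTower W K(p, k) N''] {ι ι' ι'' : Type*} [Fintype ι']
    (b : Basis ι K(p, k) N) (b' : Basis ι' K(p, k) N') (b'' : Basis ι'' K(p, k) N'')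
    (g : N → N') (G : N' →ₛₗ[τ] N'') :
    fmat b b'' (G ∘ g) = fmat b' b'' G * (fmat b b' g).map τ := by
  ext i j
  rw [fmat_apply, Function.comp_apply, ← b'.sum_repr (g (b j)), map_sum, map_sum, Finsupp.finsetSum_apply,
    Matrix.mul_apply]
  refine Finset.sum_congr rfl fun l _ => ?_
  rw [map_smulₛₗ, map_smul, Finsupp.smul_apply, smul_eq_mul, Matrix.map_apply, mul_comm]
  rfl

theorem fmat_id {ι : Type*} [DecidableEq ι] (b : Basis ι K(p, k) N) : fmat b b id = 1 := by
  ext i j
  rw [fmat_apply, id, b.repr_self, Finsupp.single_apply, Matrix.one_apply]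
  simp [eq_comm]

theorem det_fmat_ne_zero {ι : Type*} [Fintype ι] [DecidableEq ι] (b : Basis ι K(p, k) N) (b' : Basis ι K(p, k) N')
    (h : Tw τ) (G : N →ₛₗ[τ] N') (hG : Function.Surjective G) : (fmat b b' G).det ≠ 0 := by
  choose g hg using fun j => hG (b' j)
  intro hdet
  have hinj : ∀ j, ∃ c : ι → K(p, k), b' j = ∑ i, c i • G (b i) := fun j => by
    refine ⟨fun i => τ (b.repr (g j) i), ?_⟩
    conv_lhs => rw [← hg j, ← b.sum_repr (g j)]
    rw [map_sum]
    simp only [map_smulₛₗ]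
  choose c hc using hinj
  have h1 : fmat b b' G * Matrix.of (fun i j => c j i) = 1 := by
    ext i j
    rw [Matrix.mul_apply, Matrix.one_apply]
    have := congrArg (fun v => b'.repr v i) (hc j)
    simp only [b'.repr_self, Finsupp.single_apply, map_sum, map_smul, Finsupp.finsetSum_apply,
      Finsupp.smul_apply, smul_eq_mul] at this
    simp only [eq_comm] at this ⊢
    refine this.trans (Finset.sum_congr rfl fun l _ => ?_)
    rw [fmat_apply, Matrix.of_apply, mul_comm]
  have := congrArg Matrix.det h1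
  rw [Matrix.det_mul, hdet, zero_mul, Matrix.det_one] at this
  exact zero_ne_one this

variable [Module.Finite K(p, k) N]

/-- The degree of a semilinear endomorphism: the order of its determinant. -/
def deg (g : N → N) : ℤ := ord (fmat (Module.finBasis K(p, k) N) (Module.finBasis K(p, k) N) g).det

/-- The volume of a basis. -/
def bvol (b : Basis (Fin (finrank K(p, k) N)) K(p, k) N) : ℤ :=
  ord (fmat b (Module.finBasis K(p, k) N) id).det

theorem ord_det_fmat (h : Tw τ) (G : N →ₛₗ[τ] N) (hG : Function.Bijective G)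
    (b b' : Basis (Fin (finrank K(p, k) N)) K(p, k) N) :
    ord (fmat b b' G).det = deg (p := p) (k := k) (G : N → N) + bvol b - bvol b' := by
  set b₀ := Module.finBasis K(p, k) N
  have hid : Function.Surjective (LinearMap.id : N →ₗ[K(p, k)] N) := Function.surjective_id
  have n1 : (fmat b' b₀ id).det ≠ 0 := det_fmat_ne_zero b' b₀ tw_id LinearMap.id hid
  have n2 : (fmat b b' G).det ≠ 0 := det_fmat_ne_zero b b' h G hG.2
  have n3 : (fmat b₀ b₀ G).det ≠ 0 := det_fmat_ne_zero b₀ b₀ h G hG.2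
  have n4 : (fmat b b₀ id).det ≠ 0 := det_fmat_ne_zero b b₀ tw_id LinearMap.id hid
  have e1 : fmat b b₀ G = fmat b' b₀ id * fmat b b' G := by
    have := fmat_comp b b' b₀ (G : N → N) (LinearMap.id : N →ₗ[K(p, k)] N)
    rw [RingHom.coe_id, Matrix.map_id] at this
    exact this
  have e2 : fmat b b₀ G = fmat b₀ b₀ G * (fmat b b₀ id).map τ := fmat_comp b b₀ b₀ id G
  have := congrArg Matrix.det (e1.symm.trans e2)
  rw [Matrix.det_mul, Matrix.det_mul, ← RingHom.mapMatrix_apply, ← RingHom.map_det] at this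
  have h5 := congrArg ord this
  rw [ord_mul n1 n2, ord_mul n3 (by rwa [map_ne_zero]), ord_map h n4] at h5
  rw [deg, bvol, bvol]
  linarith

theorem deg_eq_ord_detCoeff (h : Tw τ) (G : N →ₛₗ[τ] N) (hG : Function.Bijective G)
    {n : ℕ} (b : Basis (Fin n) K(p, k) N) : ord (Isoc.detCoeff b G) = deg (p := p) (k := k) (G : N → N) := by
  obtain rfl : n = finrank K(p, k) N := by rw [Module.finrank_eq_card_basis b, Fintype.card_fin]
  have := ord_det_fmat h G hG b b
  rw [add_sub_cancel_right] at this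
  exact this

theorem deg_id : deg (p := p) (k := k) (id : N → N) = 0 := by
  rw [deg, fmat_id, Matrix.det_one, ord_one]

theorem deg_comp {τ' : K(p, k) →+* K(p, k)} (h : Tw τ) (h' : Tw τ') (G : N →ₛₗ[τ] N) (G' : N →ₛₗ[τ'] N)
    (hG : Function.Bijective G) (hG' : Function.Bijective G') :
    deg (p := p) (k := k) ((G' : N → N) ∘ G) = deg (p := p) (k := k) (G' : N → N) + deg (p := p) (k := k) (G : N → N) := by
  set b₀ := Module.finBasis K(p, k) N
  have n1 : (fmat b₀ b₀ G').det ≠ 0 := det_fmat_ne_zero b₀ b₀ h' G' hG'.2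
  have n2 : (fmat b₀ b₀ G).det ≠ 0 := det_fmat_ne_zero b₀ b₀ h G hG.2
  rw [deg, fmat_comp b₀ b₀ b₀ (G : N → N) G', Matrix.det_mul, ← RingHom.mapMatrix_apply, ← RingHom.map_det,
    ord_mul n1 (by rwa [map_ne_zero]), ord_map h' n2]
  rfl

theorem deg_smul (h : Tw τ) (G : N →ₛₗ[τ] N) (hG : Function.Bijective G) (r : ℤ) :
    deg (p := p) (k := k) (((p : K(p, k)) ^ r • G : N →ₛₗ[τ] N) : N → N) =
      r * finrank K(p, k) N + deg (p := p) (k := k) (G : N → N) := by
  set b₀ := Module.finBasis K(p, k) N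
  have : fmat b₀ b₀ (((p : K(p, k)) ^ r • G : N →ₛₗ[τ] N) : N → N) = ((p : K(p, k)) ^ r) • fmat b₀ b₀ G := by
    ext i j
    simp [fmat_apply]
  rw [deg, this, Matrix.det_smul, Fintype.card_fin, ord_mul (pow_ne_zero _ (zpow_p_ne_zero r))
    (det_fmat_ne_zero b₀ b₀ h G hG.2), ← zpow_natCast, ← zpow_mul, ord_zpow]
  rfl

/-! ### Lattices: bases and volume -/

/-- A basis of a lattice. -/
def lbasis (M : Submodule W N) [M.IsLattice K(p, k)] : Basis (Fin (finrank K(p, k) N)) W M :=
  have hfree : Module.Free W M := Submodule.IsLattice.free (K := K(p, k)) M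
  (Module.finBasisOfFinrankEq W M (Module.finrank_eq_of_rank_eq (by
    rw [Submodule.IsLattice.rank' K(p, k) M, Module.finrank_eq_rank])))

/-- The induced basis of the space. -/
def Lb (M : Submodule W N) [M.IsLattice K(p, k)] : Basis (Fin (finrank K(p, k) N)) K(p, k) N :=
  (lbasis M).extendOfIsLattice K(p, k)

theorem Lb_mem (M : Submodule W N) [M.IsLattice K(p, k)] (i : Fin (finrank K(p, k) N)) : Lb M i ∈ M := by
  rw [Lb, Basis.extendOfIsLattice_apply]
  exact ((lbasis M) i).2

theorem Lb_repr (M : Submodule W N) [M.IsLattice K(p, k)] (x : M) (i : Fin (finrank K(p, k) N)) :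
    (Lb M).repr (x : N) i = am ((lbasis M).repr x i) := by
  have h : (x : N) = ∑ l, am ((lbasis M).repr x l) • Lb M l := by
    conv_lhs => rw [← (lbasis M).sum_repr x]
    simp only [Submodule.coe_sum, Submodule.coe_smul_of_tower, Lb, Basis.extendOfIsLattice_apply, ← w_smul]
  rw [h]
  exact congrFun ((Lb M).repr_sum_self _) i

theorem mem_iff_repr (M : Submodule W N) [M.IsLattice K(p, k)] (x : N) :
    x ∈ M ↔ ∀ i, ∃ a : W, (Lb M).repr x i = am a := by
  refine ⟨fun hx i => ⟨_, Lb_repr M ⟨x, hx⟩ i⟩, fun h => ?_⟩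
  choose a ha using h
  rw [← (Lb M).sum_repr x]
  refine Submodule.sum_mem _ fun i _ => ?_
  rw [ha, ← w_smul]
  exact M.smul_mem _ (Lb_mem M i)

/-- The volume of a lattice. -/
def vol (M : Submodule W N) [M.IsLattice K(p, k)] : ℤ := bvol (Lb M)

/-- A map between lattices has nonnegative relative degree, and is onto if it is zero. -/
theorem vol_le_of_maps (h : Tw τ) (G : N →ₛₗ[τ] N) (hG : Function.Bijective G) (M M' : Submodule W N)
    [M.IsLattice K(p, k)] [M'.IsLattice K(p, k)] (hmaps : ∀ x ∈ M, G x ∈ M') :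
    vol M' ≤ deg (p := p) (k := k) (G : N → N) + vol M ∧
      (vol M' = deg (p := p) (k := k) (G : N → N) + vol M → img G M = M') := by
  have hdet := ord_det_fmat h G hG (Lb M) (Lb M')
  let A : Matrix (Fin (finrank K(p, k) N)) (Fin (finrank K(p, k) N)) W :=
    Matrix.of fun i j => (lbasis M').repr ⟨G (Lb M j), hmaps _ (Lb_mem M j)⟩ i
  have hA : fmat (Lb M) (Lb M') G = A.map am := by
    refine Matrix.ext fun i j => ?_
    rw [fmat_apply, Matrix.map_apply]
    exact Lb_repr M' ⟨G (Lb M j), hmaps _ (Lb_mem M j)⟩ i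
  have hne : am A.det ≠ 0 := by
    rw [RingHom.map_det, RingHom.mapMatrix_apply, ← hA]
    exact det_fmat_ne_zero _ _ h G hG.2
  have hord : ord (fmat (Lb M) (Lb M') G).det = ord (am A.det) := by
    rw [hA, RingHom.map_det, RingHom.mapMatrix_apply]
  have h0 := ord_nonneg_of_mem hne rfl
  refine ⟨by rw [vol, vol]; linarith, fun heq => le_antisymm (img_le_iff.2 hmaps) fun y hy => ?_⟩
  have hunit : IsUnit A.det := isUnit_of_ord_eq_zero (fun h' => hne (by rw [h', map_zero]))
    (by rw [← hord, hdet]; rw [vol, vol] at heq; linarith)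
  let c := A⁻¹.mulVec (fun i => (lbasis M').repr ⟨y, hy⟩ i)
  choose c' hc' using fun j => h.exists_preimage (c j)
  rw [mem_img h]
  refine ⟨∑ j, c' j • Lb M j, Submodule.sum_mem _ fun j _ => M.smul_mem _ (Lb_mem M j), ?_⟩
  refine (Lb M').ext_elem fun i => ?_
  have hi : ∑ j, A i j * c j = (lbasis M').repr ⟨y, hy⟩ i := by
    have : A.mulVec c = fun i => (lbasis M').repr ⟨y, hy⟩ i := by
      rw [Matrix.mulVec_mulVec, Matrix.mul_nonsing_inv _ hunit, Matrix.one_mulVec]
    exact congrFun this i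
  rw [show (Lb M').repr y i = am ((lbasis M').repr ⟨y, hy⟩ i) from Lb_repr M' ⟨y, hy⟩ i, ← hi, map_sum, map_sum,
    map_sum, Finsupp.finsetSum_apply]
  refine Finset.sum_congr rfl fun j _ => ?_
  rw [w_smul, map_smulₛₗ, hc', map_smul, Finsupp.smul_apply, smul_eq_mul, map_mul, mul_comm,
    show am (A i j) = fmat (Lb M) (Lb M') G i j by rw [hA, Matrix.map_apply], fmat_apply]

theorem vol_eq_of_onto (h : Tw τ) (G : N →ₛₗ[τ] N) (hG : Function.Bijective G) (M M' : Submodule W N)
    [M.IsLattice K(p, k)] [M'.IsLattice K(p, k)] (honto : img G M = M') :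
    vol M' = deg (p := p) (k := k) (G : N → N) + vol M := by
  have hdet := ord_det_fmat h G hG (Lb M) (Lb M')
  have hmaps : ∀ x ∈ M, G x ∈ M' := fun x hx => honto ▸ (mem_img h).2 ⟨x, hx, rfl⟩
  choose y hyM hy using fun j => (mem_img h).1 (honto.symm ▸ Lb_mem M' j : Lb M' j ∈ img G M)
  let B : Matrix (Fin (finrank K(p, k) N)) (Fin (finrank K(p, k) N)) W :=
    Matrix.of fun i j => (lbasis M).repr ⟨y j, hyM j⟩ i
  choose B' hB' using fun i j => h.map_mem (B i j)
  let A : Matrix (Fin (finrank K(p, k) N)) (Fin (finrank K(p, k) N)) W :=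
    Matrix.of fun i j => (lbasis M').repr ⟨G (Lb M j), hmaps _ (Lb_mem M j)⟩ i
  have hA : fmat (Lb M) (Lb M') G = A.map am := by
    refine Matrix.ext fun i j => ?_
    rw [fmat_apply, Matrix.map_apply]
    exact Lb_repr M' ⟨G (Lb M j), hmaps _ (Lb_mem M j)⟩ i
  have hprod : A * Matrix.of B' = 1 := by
    refine Matrix.ext fun i j => ?_
    apply IsFractionRing.injective W K(p, k)
    have h1 : ∑ l, τ ((Lb M).repr (y j) l) * (Lb M').repr (G (Lb M l)) i = if j = i then 1 else 0 := by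
      calc ∑ l, τ ((Lb M).repr (y j) l) * (Lb M').repr (G (Lb M l)) i
          = (Lb M').repr (G (∑ l, (Lb M).repr (y j) l • Lb M l)) i := by
            rw [map_sum, map_sum, Finsupp.finsetSum_apply]
            refine Finset.sum_congr rfl fun l _ => ?_
            rw [map_smulₛₗ, map_smul, Finsupp.smul_apply, smul_eq_mul]
        _ = _ := by rw [(Lb M).sum_repr, hy, Basis.repr_self, Finsupp.single_apply]
    rw [Matrix.mul_apply, map_sum, Matrix.one_apply, apply_ite am, map_one, map_zero]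
    simp only [eq_comm (a := j) (b := i)] at h1
    refine Eq.trans (Finset.sum_congr rfl fun l _ => ?_) h1
    rw [map_mul, show am (A i l) = fmat (Lb M) (Lb M') G i l by rw [hA, Matrix.map_apply], fmat_apply,
      Matrix.of_apply, ← hB', mul_comm]
    exact congrArg (fun z => τ z * _) (Lb_repr M ⟨y j, hyM j⟩ l).symm
  have hu : IsUnit A.det := (Matrix.isUnit_iff_isUnit_det A).1 (IsUnit.of_mul_eq_one _ hprod)
  have : ord (fmat (Lb M) (Lb M') G).det = 0 := by
    rw [hA, ← RingHom.mapMatrix_apply, ← RingHom.map_det]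
    exact ord_unit hu.unit
  rw [vol, vol]
  linarith

theorem vol_anti {M M' : Submodule W N} [M.IsLattice K(p, k)] [M'.IsLattice K(p, k)] (hle : M ≤ M') :
    vol M' ≤ vol M ∧ (vol M' = vol M → M = M') := by
  have h := vol_le_of_maps tw_id (LinearMap.id : N →ₗ[K(p, k)] N) Function.bijective_id M M' fun x hx => hle hx
  have e : deg (p := p) (k := k) ((LinearMap.id : N →ₗ[K(p, k)] N) : N → N) = 0 := deg_id
  rw [e, zero_add] at h
  refine ⟨h.1, fun he => ?_⟩
  have h2 := h.2 he
  rw [← h2]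
  refine le_antisymm (fun x hx => (mem_img tw_id).2 ⟨x, hx, rfl⟩) ?_
  rw [img_le_iff]
  exact fun x hx => hx

theorem vol_pPow (r : ℤ) (M : Submodule W N) [M.IsLattice K(p, k)] :
    (haveI := isLattice_pPow r M; vol (Isoc.pPow r M)) = vol M + r * finrank K(p, k) N := by
  haveI := isLattice_pPow r M
  let G : N →ₗ[K(p, k)] N := (p : K(p, k)) ^ r • LinearMap.id
  have hbij : Function.Bijective G :=
    ⟨fun x y hxy => smul_right_injective N (zpow_p_ne_zero r) hxy,
      fun y => ⟨(p : K(p, k)) ^ (-r) • y, by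
        show (p : K(p, k)) ^ r • (p : K(p, k)) ^ (-r) • y = y
        rw [smul_smul, ← zpow_add₀ p_ne_zero, add_neg_cancel, zpow_zero, one_smul]⟩⟩
  have honto : img G M = Isoc.pPow r M := by
    ext x
    rw [mem_img tw_id, mem_pPow]
    constructor
    · rintro ⟨y, hy, rfl⟩
      show (p : K(p, k)) ^ (-r) • (p : K(p, k)) ^ r • y ∈ M
      rwa [smul_smul, ← zpow_add₀ p_ne_zero, neg_add_cancel, zpow_zero, one_smul]
    · intro hx
      exact ⟨_, hx, by
        show (p : K(p, k)) ^ r • (p : K(p, k)) ^ (-r) • x = x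
        rw [smul_smul, ← zpow_add₀ p_ne_zero, add_neg_cancel, zpow_zero, one_smul]⟩
  show vol (Isoc.pPow r M) = _
  rw [vol_eq_of_onto tw_id G hbij M _ honto,
    show deg (p := p) (k := k) (G : N → N) = r * finrank K(p, k) N + deg (p := p) (k := k) (id : N → N) from
      deg_smul tw_id LinearMap.id Function.bijective_id r, deg_id]
  ring

theorem eq_zero_of_forall_mem_pPow (M : Submodule W N) [M.IsLattice K(p, k)] {x : N}
    (h : ∀ j : ℕ, x ∈ Isoc.pPow (j : ℤ) M) : x = 0 := by
  refine (Lb M).ext_elem fun i => ?_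
  rw [map_zero, Finsupp.zero_apply]
  by_contra hne
  obtain ⟨j, hj⟩ : ∃ j : ℕ, ord ((Lb M).repr x i) < j := ⟨(ord ((Lb M).repr x i)).toNat + 1, by omega⟩
  obtain ⟨a, ha⟩ := (mem_iff_repr M _).1 (mem_pPow.1 (h j)) i
  rw [map_smul, Finsupp.smul_apply, smul_eq_mul] at ha
  have := ord_nonneg_of_mem (mul_ne_zero (zpow_p_ne_zero _) hne) ha.symm
  rw [ord_mul (zpow_p_ne_zero _) hne, ord_zpow] at this
  omega

/-- A monotone chain of lattices of bounded length has an equality. -/
theorem exists_chain_eq (C : ℕ → Submodule W N) [∀ i, (C i).IsLattice K(p, k)] (hmono : ∀ i, C i ≤ C (i + 1))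
    (B : ℕ) (hB : ∀ i, vol (C 0) - vol (C i) ≤ (B : ℤ)) : ∃ i ≤ B, C i = C (i + 1) := by
  by_contra hne
  push Not at hne
  have hstep : ∀ i ≤ B + 1, (i : ℤ) ≤ vol (C 0) - vol (C i) := by
    intro i hi
    induction i with
    | zero => simp
    | succ i ih =>
      have h1 := ih (by omega)
      obtain ⟨h2, h3⟩ := vol_anti (hmono i)
      have : vol (C (i + 1)) ≠ vol (C i) := fun e => hne i (by omega) (h3 e)
      push_cast
      omega
  have := hstep (B + 1) le_rfl
  have := hB (B + 1)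
  omega

/-- An antitone chain of lattices of bounded length has an equality. -/
theorem exists_chain_eq' (C : ℕ → Submodule W N) [∀ i, (C i).IsLattice K(p, k)] (hanti : ∀ i, C (i + 1) ≤ C i)
    (B : ℕ) (hB : ∀ i, vol (C i) - vol (C 0) ≤ (B : ℤ)) : ∃ i ≤ B, C i = C (i + 1) := by
  by_contra hne
  push Not at hne
  have hstep : ∀ i ≤ B + 1, (i : ℤ) ≤ vol (C i) - vol (C 0) := by
    intro i hi
    induction i with
    | zero => simp
    | succ i ih =>
      have h1 := ih (by omega)
      obtain ⟨h2, h3⟩ := vol_anti (hanti i)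
      have : vol (C (i + 1)) ≠ vol (C i) := fun e => hne i (by omega) (h3 e.symm).symm
      push_cast
      omega
  have := hstep (B + 1) le_rfl
  have := hB (B + 1)
  omega

end Groth.Agent.IsocLib
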