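import Groth.Agent.Lib.Isoc.Polygon
import Mathlib.Algebra.Module.Lattice
import Mathlib.Logic.Equiv.Fin.Rotate
import Mathlib.RingTheory.Coprime.Lemmas

/-!
The standard isocrystals.
-/

noncomputable section

open scoped Isocrystal Pointwise
open Module

universe u v

set_option linter.unusedSectionVars false

namespace Groth.Agent.IsocLib

variable {p : ℕ} [Fact p.Prime] {k : Type u} [Field k] [CharP k p] [PerfectRing k p]

local notation "W" => WittVector p k
local notation "am" => algebraMap (WittVector p k) (FractionRing (WittVector p k))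

variable {τ : K(p, k) →+* K(p, k)}

theorem stdIsoc_single (d : ℤ) {m : ℕ} (j : Fin (m + 1)) :
    Isoc.stdIsoc τ d (m + 1) (Pi.single j 1) =
      (if j = Fin.last m then (p : K(p, k)) ^ d else 1) • Pi.single (j + 1) 1 := by
  have key : ∀ i : Fin (m + 1), (finRotate (m + 1)).symm i = j ↔ i = j + 1 := fun i => by
    rw [Equiv.symm_apply_eq, finRotate_succ_apply]
  have key2 : ((j + 1 : Fin (m + 1)).val = 0) ↔ j = Fin.last m := by
    rw [Fin.val_add_one]
    split <;> simp_all
  funext i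
  rw [Isoc.stdIsoc_apply, Pi.smul_apply, Pi.single_apply, Pi.single_apply, smul_eq_mul, apply_ite τ, map_one,
    map_zero]
  simp only [key]
  rcases eq_or_ne i (j + 1) with rfl | hi
  · simp only [key2, if_true]
  · simp [hi]

theorem stdIsoc_iterate_single_zero (d : ℤ) {m : ℕ} :
    ∀ n : ℕ, n ≤ m → (⇑(Isoc.stdIsoc τ d (m + 1)))^[n] (Pi.single 0 1) = Pi.single (Fin.ofNat (m + 1) n) 1
  | 0, _ => by simp
  | n + 1, hn => by
    have h1 : Fin.ofNat (m + 1) n ≠ Fin.last m := fun e => by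
      have := congrArg Fin.val e
      simp only [Fin.val_ofNat, Fin.val_last, Nat.mod_eq_of_lt (by omega : n < m + 1)] at this
      omega
    rw [Function.iterate_succ_apply', stdIsoc_iterate_single_zero d n (by omega), stdIsoc_single, if_neg h1,
      one_smul]
    congr 1
    ext
    simp [Fin.val_add, Fin.val_ofNat]

theorem stdIsoc_iterate_single (d : ℤ) {m : ℕ} (j : Fin (m + 1)) :
    (⇑(Isoc.stdIsoc τ d (m + 1)))^[m + 1] (Pi.single j 1) = (p : K(p, k)) ^ d • Pi.single j 1 := by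
  have h0 : (⇑(Isoc.stdIsoc τ d (m + 1)))^[m + 1] (Pi.single 0 1) = (p : K(p, k)) ^ d • Pi.single 0 1 := by
    have h1 : Fin.ofNat (m + 1) m = Fin.last m := Fin.ext (by simp [Fin.val_ofNat])
    rw [Function.iterate_succ_apply', stdIsoc_iterate_single_zero d m le_rfl, h1, stdIsoc_single, if_pos rfl,
      Fin.last_add_one]
  have hj : Fin.ofNat (m + 1) j.val = j := Fin.ext (by simp [Fin.val_ofNat, Nat.mod_eq_of_lt j.isLt])
  rw [← hj, ← stdIsoc_iterate_single_zero (τ := τ) d j.val (by omega), ← Function.iterate_add_apply,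
    Nat.add_comm (m + 1) j.val, Function.iterate_add_apply, h0, iterate_zpow_smul]

theorem stdIsoc_sc (d : ℤ) {m : ℕ} (x : Fin (m + 1) → K(p, k)) (i : Fin (m + 1)) :
    sc (Isoc.stdIsoc τ d (m + 1)) (-d) (m + 1) x i = (τ ^ (m + 1)) (x i) := by
  conv_lhs => rw [pi_eq_sum_univ' x]
  simp only [map_sum, map_smulₛₗ, Finset.sum_apply, Pi.smul_apply]
  have : ∀ j, sc (Isoc.stdIsoc τ d (m + 1)) (-d) (m + 1) (Pi.single j 1) = Pi.single j 1 := fun j => by
    rw [sc_apply, stdIsoc_iterate_single, smul_smul, ← zpow_add₀ p_ne_zero, neg_add_cancel, zpow_zero, one_smul]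
  simp only [this]
  rw [Finset.sum_eq_single i (fun b _ hb => by simp [Pi.single_eq_of_ne (Ne.symm hb)]) (by simp)]
  simp

/-- The standard lattice. -/
def stdLat (m : ℕ) : Submodule W (Fin m → K(p, k)) :=
  Submodule.span W (Set.range (Pi.basisFun K(p, k) (Fin m)))

theorem isLattice_stdLat (m : ℕ) : (stdLat (p := p) (k := k) m).IsLattice K(p, k) :=
  ⟨Submodule.fg_span (Set.finite_range _), by
    rw [stdLat, Submodule.span_span_of_tower, Basis.span_eq]⟩

theorem mem_stdLat {m : ℕ} {x : Fin m → K(p, k)} : x ∈ stdLat m ↔ ∀ i, ∃ a : W, x i = am a := by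
  constructor
  · intro hx i
    refine Submodule.span_induction (p := fun x _ => ∃ a : W, x i = am a) ?_ ⟨0, by simp⟩
      (fun a b _ _ ⟨a', ha⟩ ⟨b', hb⟩ => ⟨a' + b', by rw [map_add, ← ha, ← hb]; rfl⟩)
      (fun c a _ ⟨a', ha⟩ => ⟨c * a', by rw [map_mul, ← ha, Pi.smul_apply, Algebra.smul_def]⟩) hx
    rintro _ ⟨j, rfl⟩
    rcases eq_or_ne j i with rfl | hne
    · exact ⟨1, by simp⟩
    · exact ⟨0, by simp [Pi.single_eq_of_ne (Ne.symm hne)]⟩
  · intro hx
    choose a ha using hx
    rw [pi_eq_sum_univ' x]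
    refine Submodule.sum_mem _ fun i _ => ?_
    rw [ha, ← w_smul]
    exact Submodule.smul_mem _ _ (Submodule.subset_span ⟨i, by simp⟩)

theorem isIsoclinic_stdIsoc (h : Tw τ) (d : ℤ) {n : ℕ} (hn : 0 < n) :
    Isoc.IsIsoclinic (Isoc.stdIsoc τ d n) ((d : ℚ) / n) := by
  obtain ⟨m, rfl⟩ := Nat.exists_eq_succ_of_ne_zero hn.ne'
  refine (isIsoclinic_iff h).2 ⟨stdLat (m + 1), isLattice_stdLat _, d, m + 1, hn, rfl, ?_⟩
  rw [Pure]
  ext x
  simp only [Set.mem_image, SetLike.mem_coe, mem_stdLat]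
  constructor
  · rintro ⟨y, hy, rfl⟩ i
    obtain ⟨a, ha⟩ := hy i
    rw [stdIsoc_sc, ha]
    exact (h.pow _).map_mem a
  · intro hx
    choose a ha using hx
    choose b hb using fun i => (h.pow (m + 1)).exists_preimage (a i)
    exact ⟨fun i => am (b i), fun i => ⟨b i, rfl⟩, funext fun i => by rw [stdIsoc_sc, hb, ha]⟩

theorem bijective_stdIsoc (h : Tw τ) (d : ℤ) (n : ℕ) : Function.Bijective (Isoc.stdIsoc τ d n) := by
  refine bijective_of_injective h ((injective_iff_map_eq_zero _).2 fun x hx => funext fun i => ?_)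
  have h0 : ∀ i : Fin n, (if (finRotate n i).val = 0 then (p : K(p, k)) ^ d else 1) ≠ 0 := fun i => by
    split
    · exact zpow_p_ne_zero d
    · exact one_ne_zero
  have h1 := congrFun hx (finRotate n i)
  rw [Isoc.stdIsoc_apply, Equiv.symm_apply_apply, Pi.zero_apply, mul_eq_zero] at h1
  exact (map_eq_zero τ).1 (h1.resolve_left (h0 i))

theorem stdIsoc_simple (h : Tw τ) (d : ℤ) {n : ℕ} (hn : 0 < n) (hdn : Int.gcd d n = 1)
    (P : Submodule K(p, k) (Fin n → K(p, k))) (hP : ∀ x ∈ P, Isoc.stdIsoc τ d n x ∈ P) : P = ⊥ ∨ P = ⊤ := by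
  have hb := bijective_stdIsoc (p := p) (k := k) h d n
  have hbP : Function.Bijective ((Isoc.stdIsoc τ d n).restrict hP) :=
    bijective_of_injective h fun a b hab => Subtype.ext (hb.1 (congrArg Subtype.val hab))
  have hI : Isoc.IsIsoclinic ((Isoc.stdIsoc τ d n).restrict hP) ((d : ℚ) / n) :=
    isIsoclinic_of_injective h hb.1 (isIsoclinic_stdIsoc h d hn) P.subtype (fun _ => rfl) P.subtype_injective
  have h1 := deg_eq_of_isIsoclinic h hbP hI
  rw [div_mul_eq_mul_div, eq_div_iff (by exact_mod_cast hn.ne')] at h1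
  have hdvd : (n : ℤ) ∣ d * finrank K(p, k) P :=
    ⟨deg (p := p) (k := k) ((Isoc.stdIsoc τ d n).restrict hP), by rw [mul_comm (n : ℤ)]; exact_mod_cast h1.symm⟩
  have hdvd' : n ∣ finrank K(p, k) P := by
    have := Int.dvd_of_dvd_mul_right_of_gcd_one hdvd (by rwa [Int.gcd_comm])
    exact_mod_cast this
  have hle : finrank K(p, k) P ≤ n := (Submodule.finrank_le P).trans (by simp)
  rcases Nat.eq_zero_or_pos (finrank K(p, k) P) with h0 | hpos
  · exact Or.inl (Submodule.finrank_eq_zero.1 h0)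
  · refine Or.inr (Submodule.eq_top_of_finrank_eq ?_)
    rw [Module.finrank_fintype_fun_eq_card, Fintype.card_fin]
    exact le_antisymm hle (Nat.le_of_dvd hpos hdvd')

end Groth.Agent.IsocLib
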