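import Groth.Agent.Lib.Isoc.Fixed
import Groth.Agent.Lib.Isoc.Std

/-!
Dieudonné–Manin: semisimplicity and classification over an algebraically closed field.
-/

noncomputable section

open scoped Isocrystal Pointwise
open Module

universe u v

set_option linter.unusedSectionVars false

namespace Groth.Agent.IsocLib

variable {p : ℕ} [Fact p.Prime] {k : Type u} [Field k] [CharP k p] [PerfectRing k p]

local notation "W" => WittVector p k

variable {N : Type v} [AddCommGroup N] [Module (WittVector p k) N] [Module K(p, k) N]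
  [IsScalarTower (WittVector p k) K(p, k) N]
variable {τ : K(p, k) →+* K(p, k)} {F : N →ₛₗ[τ] N}

theorem exists_pure_num_den [Module.Finite K(p, k) N] (h : Tw τ) (hF : Function.Bijective F) {μ : ℚ}
    (hI : Isoc.IsIsoclinic F μ) :
    ∃ M : Submodule W N, M.IsLattice K(p, k) ∧ Pure M F μ.num μ.den := by
  rcases subsingleton_or_nontrivial N with hsub | hnt
  · obtain ⟨M, hM⟩ := exists_lattice (p := p) (k := k) (N := N)
    refine ⟨M, hM, Set.ext fun x => ⟨fun _ => ?_, fun _ => ⟨x, ?_, Subsingleton.elim _ _⟩⟩⟩ <;>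
      exact (Subsingleton.elim (0 : N) x) ▸ M.zero_mem
  obtain ⟨M₀, hM₀, r, s, hs, hrs, hP⟩ := (isIsoclinic_iff h).1 hI
  have hd₀ : Div M₀ F s r := latImg_le_iff.1 ((pure_iff h).1 hP).le
  have h1 := div_le_slope (M := M₀) h hF hs.ne' hd₀
  have hμ : ((μ.num : ℝ) / μ.den) = (r : ℝ) / s := by
    have h2 : ((r : ℚ) / s : ℚ) = (μ.num : ℚ) / μ.den := by rw [hrs, Rat.num_div_den]
    have := congrArg (fun q : ℚ => (q : ℝ)) h2
    push_cast at this
    exact this.symm
  obtain ⟨M, hM, hd⟩ := exists_div_of_le_slope h hF μ.den_pos (hμ ▸ h1)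
  refine ⟨M, hM, (pure_iff h).2 ((hd.det_le h hF).2 ?_)⟩
  have h3 := deg_eq_of_isIsoclinic h hF hI
  conv_rhs at h3 => rw [← Rat.num_div_den μ]
  have : (μ.den : ℚ) ≠ 0 := by exact_mod_cast μ.den_ne_zero
  field_simp at h3
  have h4 : ((μ.num * finrank K(p, k) N : ℤ) : ℚ) = ((μ.den * deg (p := p) (k := k) (F : N → N) : ℤ) : ℚ) := by
    push_cast
    linarith
  exact_mod_cast h4

/-! ### Cyclic subspaces -/

/-- The map sending the standard basis to the first iterates of `v`. -/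
def cyc (F : N →ₛₗ[τ] N) (v : N) (h : ℕ) : (Fin h → K(p, k)) →ₗ[K(p, k)] N :=
  (Pi.basisFun K(p, k) (Fin h)).constr K(p, k) fun i => (⇑F)^[i.val] v

theorem cyc_single (v : N) {h : ℕ} (i : Fin h) : cyc F v h (Pi.single i 1) = (⇑F)^[i.val] v := by
  rw [← Pi.basisFun_apply, cyc, Basis.constr_basis]

theorem map_cyc {d : ℤ} {h : ℕ} {v : N} (hv : (⇑F)^[h] v = (p : K(p, k)) ^ d • v) (x : Fin h → K(p, k)) :
    F (cyc F v h x) = cyc F v h (Isoc.stdIsoc τ d h x) := by
  cases h with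
  | zero => rw [show x = 0 from Subsingleton.elim _ _, map_zero, map_zero, map_zero, map_zero]
  | succ m =>
    conv_lhs => rw [pi_eq_sum_univ' x]
    conv_rhs => rw [pi_eq_sum_univ' x]
    simp only [map_sum, map_smul, LinearMap.map_smulₛₗ, RingHom.id_apply, cyc_single, stdIsoc_single]
    refine Finset.sum_congr rfl fun j _ => ?_
    congr 1
    rw [← Function.iterate_succ_apply' (⇑F)]
    rcases eq_or_ne j (Fin.last m) with rfl | hj
    · rw [if_pos rfl, Fin.last_add_one, Fin.val_last, Fin.val_zero, Function.iterate_zero_apply]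
      exact hv
    · rw [if_neg hj, one_smul, Fin.val_add_one, if_neg hj]

theorem cyc_ne_zero {v : N} (hv : v ≠ 0) {h : ℕ} (hh : 0 < h) : cyc F v h ≠ 0 := fun e => hv (by
  have := cyc_single (F := F) v (⟨0, hh⟩ : Fin h)
  rwa [e, LinearMap.zero_apply, Function.iterate_zero_apply, eq_comm] at this)

theorem cyc_injective (hT : Tw τ) {d : ℤ} {h : ℕ} {v : N} (hh : 0 < h) (hdh : Int.gcd d h = 1)
    (hv : (⇑F)^[h] v = (p : K(p, k)) ^ d • v) (hv0 : v ≠ 0) : Function.Injective (cyc F v h) := by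
  rw [← LinearMap.ker_eq_bot]
  refine (stdIsoc_simple hT d hh hdh _ fun x hx => ?_).resolve_right fun e =>
    cyc_ne_zero hv0 hh (LinearMap.ker_eq_top.1 e)
  rw [LinearMap.mem_ker] at hx ⊢
  rw [← map_cyc hv, hx, map_zero]

theorem range_cyc_stable {d : ℤ} {h : ℕ} {v : N} (hv : (⇑F)^[h] v = (p : K(p, k)) ^ d • v) :
    ∀ x ∈ LinearMap.range (cyc F v h), F x ∈ LinearMap.range (cyc F v h) := by
  rintro _ ⟨x, rfl⟩
  exact ⟨_, (map_cyc hv x).symm⟩

theorem range_cyc_simple (hT : Tw τ) {d : ℤ} {h : ℕ} {v : N} (hh : 0 < h) (hdh : Int.gcd d h = 1)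
    (hv : (⇑F)^[h] v = (p : K(p, k)) ^ d • v) (P : Submodule K(p, k) N) (hP : ∀ x ∈ P, F x ∈ P) :
    LinearMap.range (cyc F v h) ⊓ P = ⊥ ∨ LinearMap.range (cyc F v h) ≤ P := by
  rcases stdIsoc_simple hT d hh hdh (P.comap (cyc F v h)) (fun x hx => by
    rw [Submodule.mem_comap] at hx ⊢
    rw [← map_cyc hv]
    exact hP _ hx) with h0 | h0
  · left
    rw [eq_bot_iff]
    rintro _ ⟨⟨x, rfl⟩, hx⟩
    have hx' : x ∈ P.comap (cyc F v h) := hx
    rw [h0, Submodule.mem_bot] at hx'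
    rw [hx', map_zero]
    exact zero_mem _
  · right
    rintro _ ⟨x, rfl⟩
    show x ∈ P.comap (cyc F v h)
    rw [h0]; trivial

theorem range_cyc_mem_isoSet (hT : Tw τ) {d : ℤ} {h : ℕ} {v : N} (hh : 0 < h)
    (hv : (⇑F)^[h] v = (p : K(p, k)) ^ d • v) : LinearMap.range (cyc F v h) ∈ isoSet F ((d : ℚ) / h) :=
  ⟨range_cyc_stable hv, isIsoclinic_of_surjective hT (isIsoclinic_stdIsoc hT d hh) (cyc F v h).rangeRestrict
    (fun x => Subtype.ext (map_cyc hv x).symm) (cyc F v h).surjective_rangeRestrict⟩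

/-! ### Spanning by vectors with a simple cyclic subspace -/

/-- The vectors with `F^h v = p^d v` for coprime `d`, `h`. -/
def manSet (F : N →ₛₗ[τ] N) : Set N :=
  {v | ∃ (d : ℤ) (h : ℕ), 0 < h ∧ Int.gcd d h = 1 ∧ (⇑F)^[h] v = (p : K(p, k)) ^ d • v}

theorem span_manSet [IsAlgClosed k] [Module.Finite K(p, k) N] {a : ℤ} (ha : a ≠ 0)
    {F : N →ₛₗ[Isoc.frob p k a] N} (hF : Function.Bijective F) : Submodule.span K(p, k) (manSet F) = ⊤ := by
  have hT := tw_frob (p := p) (k := k) a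
  rw [eq_top_iff, ← iSup_slopePart hT hF.1, iSup_le_iff]
  intro μ
  obtain ⟨hs, hi⟩ := slopePart_mem (F := F) hT μ
  have hb : Function.Bijective (F.restrict hs) :=
    bijective_of_injective hT fun x y hxy => Subtype.ext (hF.1 (congrArg Subtype.val hxy))
  obtain ⟨M, hM, hP⟩ := exists_pure_num_den hT hb hi
  have hspan := span_fixed (z := a * μ.den) (mul_ne_zero ha (by exact_mod_cast μ.den_ne_zero))
    (frob_pow_algebraMap a μ.den) (sc (F.restrict hs) (-μ.num) μ.den) M hP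
  intro x hx
  have hx' : (⟨x, hx⟩ : Isoc.slopePart F μ) ∈
      Submodule.span K(p, k) {v | sc (F.restrict hs) (-μ.num) μ.den v = v} := by rw [hspan]; trivial
  have := Submodule.apply_mem_span_image_of_mem_span (Isoc.slopePart F μ).subtype hx'
  refine Submodule.span_mono ?_ this
  rintro _ ⟨v, hv, rfl⟩
  refine ⟨μ.num, μ.den, μ.den_pos, ?_, ?_⟩
  · rw [Int.gcd, Int.natAbs_natCast]
    exact μ.reduced
  · have h1 := semiconj_sc (F := F.restrict hs) (F' := F) (f := (Isoc.slopePart F μ).subtype) (fun _ => rfl)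
      (-μ.num) μ.den v
    rw [show sc (F.restrict hs) (-μ.num) μ.den v = v from hv, sc_apply] at h1
    conv_rhs => rw [h1, smul_smul, ← zpow_add₀ p_ne_zero, add_neg_cancel, zpow_zero, one_smul]

variable [Module.Finite K(p, k) N]

/-- Semisimplicity from a spanning set of vectors with simple cyclic subspaces. -/
theorem exists_compl (hT : Tw τ) (hspan : Submodule.span K(p, k) (manSet F) = ⊤)
    (P : Submodule K(p, k) N) (hP : ∀ x ∈ P, F x ∈ P) :
    ∃ Q : Submodule K(p, k) N, (∀ x ∈ Q, F x ∈ Q) ∧ IsCompl P Q := by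
  obtain ⟨Q, ⟨hQ, hPQ⟩, hmax⟩ := WellFounded.has_min (wellFounded_gt (α := Submodule K(p, k) N))
    {Q | (∀ x ∈ Q, F x ∈ Q) ∧ P ⊓ Q = ⊥}
    ⟨⊥, fun x hx => by rw [(Submodule.mem_bot _).1 hx, map_zero]; exact zero_mem _, inf_bot_eq P⟩
  refine ⟨Q, hQ, ⟨disjoint_iff.2 hPQ, codisjoint_iff.2 ?_⟩⟩
  rw [eq_top_iff, ← hspan, Submodule.span_le]
  intro v hv
  obtain ⟨d, h, hh, hdh, hv'⟩ := hv
  have hPQs : ∀ x ∈ P ⊔ Q, F x ∈ P ⊔ Q := fun x hx => by
    obtain ⟨a, ha, b, hb, rfl⟩ := Submodule.mem_sup.1 hx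
    rw [map_add]
    exact Submodule.add_mem_sup (hP a ha) (hQ b hb)
  have hvr : v ∈ LinearMap.range (cyc F v h) :=
    ⟨Pi.single (⟨0, hh⟩ : Fin h) 1, by rw [cyc_single]; rfl⟩
  rcases range_cyc_simple hT hh hdh hv' (P ⊔ Q) hPQs with h0 | h0
  · by_contra hvn
    refine hmax (Q ⊔ LinearMap.range (cyc F v h)) ⟨fun x hx => ?_, ?_⟩ ?_
    · obtain ⟨a, ha, b, hb, rfl⟩ := Submodule.mem_sup.1 hx
      rw [map_add]
      exact Submodule.add_mem_sup (hQ a ha) (range_cyc_stable hv' b hb)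
    · rw [eq_bot_iff]
      rintro x ⟨hx, hx'⟩
      obtain ⟨a, ha, b, hb, rfl⟩ := Submodule.mem_sup.1 hx'
      have hb0 : b = 0 := by
        refine (Submodule.mem_bot K(p, k)).1 (h0 ▸ Submodule.mem_inf.2 ⟨hb, ?_⟩)
        have := sub_mem (Submodule.mem_sup_left (T := Q) hx) (Submodule.mem_sup_right (S := P) ha)
        rwa [add_sub_cancel_left] at this
      subst hb0
      rw [add_zero] at hx ⊢
      exact hPQ ▸ Submodule.mem_inf.2 ⟨hx, ha⟩
    · exact left_lt_sup.2 fun hle => hvn (Submodule.mem_sup_right (hle hvr))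
  · exact h0 hvr

/-! ### The classification -/

/-- The sum of the cyclic maps of a family. -/
def cycSum (F : N →ₛₗ[τ] N) {t : ℕ} (h : Fin t → ℕ) (v : Fin t → N) :
    ((i : Fin t) → Fin (h i) → K(p, k)) →ₗ[K(p, k)] N :=
  ∑ i, (cyc F (v i) (h i)).comp (LinearMap.proj i)

theorem cycSum_apply {t : ℕ} (h : Fin t → ℕ) (v : Fin t → N) (x : (i : Fin t) → Fin (h i) → K(p, k)) :
    cycSum F h v x = ∑ i, cyc F (v i) (h i) (x i) := by
  simp [cycSum]

/-- A family of cyclic vectors with independent cyclic subspaces. -/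
def IsFam (F : N →ₛₗ[τ] N) (t : ℕ) (d : Fin t → ℤ) (h : Fin t → ℕ) (v : Fin t → N) : Prop :=
  (∀ i, 0 < h i ∧ Int.gcd (d i) (h i) = 1 ∧ (⇑F)^[h i] (v i) = (p : K(p, k)) ^ d i • v i) ∧
    Function.Injective (cycSum F h v)

theorem exists_fam_bijective (hT : Tw τ) (hspan : Submodule.span K(p, k) (manSet F) = ⊤) :
    ∃ t d h v, IsFam F t d h v ∧ Function.Surjective (cycSum F h v) := by
  classical
  have hbound : ∀ t d h v, IsFam F t d h v → t ≤ finrank K(p, k) N := by
    intro t d h v hfam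
    have := LinearMap.finrank_le_finrank_of_injective hfam.2
    rw [Module.finrank_pi_fintype] at this
    simp only [Module.finrank_fintype_fun_eq_card, Fintype.card_fin] at this
    refine le_trans ?_ this
    calc t = ∑ _i : Fin t, 1 := by simp
      _ ≤ ∑ i, h i := Finset.sum_le_sum fun i _ => (hfam.1 i).1
  let P : ℕ → Prop := fun t => ∃ d h v, IsFam F t d h v
  have h0 : P 0 := ⟨Fin.elim0, Fin.elim0, Fin.elim0, fun i => i.elim0, fun x y _ => funext fun i => i.elim0⟩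
  obtain ⟨d, h, v, hfam⟩ : P (Nat.findGreatest P (finrank K(p, k) N)) := Nat.findGreatest_spec (Nat.zero_le _) h0
  refine ⟨_, d, h, v, hfam, ?_⟩
  rw [← LinearMap.range_eq_top]
  by_contra hne
  have hRs : ∀ x ∈ LinearMap.range (cycSum F h v), F x ∈ LinearMap.range (cycSum F h v) := by
    rintro _ ⟨x, rfl⟩
    refine ⟨fun i => Isoc.stdIsoc τ (d i) (h i) (x i), ?_⟩
    rw [cycSum_apply, cycSum_apply, map_sum]
    exact Finset.sum_congr rfl fun i _ => (map_cyc (hfam.1 i).2.2 (x i)).symm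
  obtain ⟨w, ⟨d₀, h₀, hh, hdh, hw⟩, hwR⟩ : ∃ w ∈ manSet F, w ∉ LinearMap.range (cycSum F h v) := by
    by_contra hc
    push Not at hc
    exact hne (eq_top_iff.2 (hspan ▸ Submodule.span_le.2 hc))
  have hw0 : w ≠ 0 := fun e => hwR (e ▸ zero_mem _)
  have hdisj := (range_cyc_simple hT hh hdh hw _ hRs).resolve_right fun hle =>
    hwR (hle ⟨Pi.single (⟨0, hh⟩ : Fin h₀) 1, by rw [cyc_single]; rfl⟩)
  have hnew : P (Nat.findGreatest P (finrank K(p, k) N) + 1) := by
    refine ⟨Fin.cons d₀ d, Fin.cons h₀ h, Fin.cons w v, Fin.cases ⟨hh, hdh, hw⟩ hfam.1, ?_⟩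
    rw [injective_iff_map_eq_zero]
    intro x hx
    rw [cycSum_apply, Fin.sum_univ_succ] at hx
    let x0 : Fin h₀ → K(p, k) := x 0
    let x' : (i : Fin _) → Fin (h i) → K(p, k) := fun i => x i.succ
    have hx' : cyc F w h₀ x0 + cycSum F h v x' = 0 := by rw [cycSum_apply]; exact hx
    have hA : cyc F w h₀ x0 = 0 := by
      refine (Submodule.mem_bot K(p, k)).1 (hdisj ▸ Submodule.mem_inf.2 ⟨⟨x0, rfl⟩, ?_⟩)
      rw [eq_neg_of_add_eq_zero_left hx']
      exact neg_mem ⟨x', rfl⟩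
    rw [hA, zero_add] at hx'
    have h1 : x0 = 0 := cyc_injective hT hh hdh hw hw0 (by rw [hA, map_zero])
    have h2 : x' = 0 := hfam.2 (by rw [hx', map_zero])
    funext i
    induction i using Fin.cases with
    | zero => exact h1
    | succ j => exact congrFun h2 j
  have hle := hbound _ _ _ _ hnew.choose_spec.choose_spec.choose_spec
  exact Nat.findGreatest_is_greatest (Nat.lt_succ_self _) hle hnew

theorem classify (hT : Tw τ) (hF : Function.Bijective F) (hspan : Submodule.span K(p, k) (manSet F) = ⊤) :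
    ∃ (t : ℕ) (d : Fin t → ℤ) (h : Fin t → ℕ)
      (e : N ≃ₗ[K(p, k)] ((i : Fin t) → Fin (h i) → K(p, k))),
      (∀ i, 0 < h i ∧ Int.gcd (d i) (h i) = 1) ∧
      (∀ (x : N) (i : Fin t), e (F x) i = Isoc.stdIsoc τ (d i) (h i) (e x i)) ∧
      ∀ μ : ℚ, Isoc.newtonMult F μ = ∑ i : Fin t, (if ((d i : ℚ) / (h i : ℚ)) = μ then h i else 0) := by
  classical
  obtain ⟨t, d, h, v, hfam, hsurj⟩ := exists_fam_bijective hT hspan
  let e := (LinearEquiv.ofBijective (cycSum F h v) ⟨hfam.2, hsurj⟩).symm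
  have he : ∀ y, e (cycSum F h v y) = y := fun y => LinearEquiv.symm_apply_apply _ y
  have hcomm : ∀ (x : N) (i : Fin t), e (F x) i = Isoc.stdIsoc τ (d i) (h i) (e x i) := fun x i => by
    obtain ⟨y, rfl⟩ := hsurj x
    have : F (cycSum F h v y) = cycSum F h v fun i => Isoc.stdIsoc τ (d i) (h i) (y i) := by
      rw [cycSum_apply, cycSum_apply, map_sum]
      exact Finset.sum_congr rfl fun i _ => map_cyc (hfam.1 i).2.2 (y i)
    rw [this, he, he]
  refine ⟨t, d, h, e, fun i => ⟨(hfam.1 i).1, (hfam.1 i).2.1⟩, hcomm, fun μ => ?_⟩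
  obtain ⟨hs, hi⟩ := slopePart_mem (F := F) hT μ
  let J := {i : Fin t // (d i : ℚ) / (h i : ℚ) = μ}
  let ψ : Isoc.slopePart F μ →ₗ[K(p, k)] ((i : J) → Fin (h i.1) → K(p, k)) :=
    LinearMap.pi fun i => (LinearMap.proj i.1).comp (e.toLinearMap.comp (Isoc.slopePart F μ).subtype)
  have hzero : ∀ (x : Isoc.slopePart F μ) (i : Fin t), (d i : ℚ) / (h i : ℚ) ≠ μ → e x.1 i = 0 := by
    intro x i hne
    have := hom_eq_zero hT (bijective_stdIsoc hT (d i) (h i)) hi (isIsoclinic_stdIsoc hT (d i) (hfam.1 i).1)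
      (Ne.symm hne) ((LinearMap.proj i).comp (e.toLinearMap.comp (Isoc.slopePart F μ).subtype))
      (fun y => hcomm y.1 i)
    exact LinearMap.congr_fun this x
  have hψi : Function.Injective ψ := by
    rw [injective_iff_map_eq_zero]
    intro x hx
    refine Subtype.ext (e.map_eq_zero_iff.1 (funext fun i => ?_))
    by_cases hi' : (d i : ℚ) / (h i : ℚ) = μ
    · exact congrFun hx ⟨i, hi'⟩
    · exact hzero x i hi'
  have hψs : Function.Surjective ψ := by
    intro z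
    let y : (i : Fin t) → Fin (h i) → K(p, k) := fun i =>
      if hi' : (d i : ℚ) / (h i : ℚ) = μ then z ⟨i, hi'⟩ else 0
    have hy : cycSum F h v y ∈ Isoc.slopePart F μ := by
      rw [cycSum_apply]
      refine Submodule.sum_mem _ fun i _ => ?_
      by_cases hi' : (d i : ℚ) / (h i : ℚ) = μ
      · exact le_slopePart (hi' ▸ range_cyc_mem_isoSet hT (hfam.1 i).1 (hfam.1 i).2.2) (LinearMap.mem_range_self _ _)
      · simp [y, hi']
    refine ⟨⟨_, hy⟩, funext fun i => ?_⟩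
    show e (cycSum F h v y) i.1 = z i
    rw [he]
    exact dif_pos i.2
  rw [Isoc.newtonMult, (LinearEquiv.ofBijective ψ ⟨hψi, hψs⟩).finrank_eq, Module.finrank_pi_fintype]
  simp only [Module.finrank_fintype_fun_eq_card, Fintype.card_fin]
  rw [← Finset.sum_filter]
  exact (Finset.sum_subtype _ (fun i => by simp) (fun i => h i)).symm

end Groth.Agent.IsocLib
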