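import Groth.Agent.Lib.Isoc.Split
import Mathlib.LinearAlgebra.Matrix.Block
import Mathlib.LinearAlgebra.Dimension.Finite
import Mathlib.Algebra.BigOperators.Finprod

/-!
The end point of the Newton polygon.
-/

noncomputable section

open scoped Isocrystal Pointwise
open Module

universe u v w

set_option linter.unusedSectionVars false

namespace Groth.Agent.IsocLib

variable {p : ℕ} [Fact p.Prime] {k : Type u} [Field k] [CharP k p] [PerfectRing k p]

local notation "W" => WittVector p k

variable {N : Type v} [AddCommGroup N] [Module (WittVector p k) N] [Module K(p, k) N]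
  [IsScalarTower (WittVector p k) K(p, k) N]
variable {τ : K(p, k) →+* K(p, k)} {F : N →ₛₗ[τ] N}

/-- The degree is additive along a decomposition into stable subspaces. -/
theorem deg_eq_sum [Module.Finite K(p, k) N] (h : Tw τ) (hF : Function.Bijective F) {ι : Type w} [Fintype ι]
    [LinearOrder ι] (A : ι → Submodule K(p, k) N) (hA : DirectSum.IsInternal A)
    (hs : ∀ i, ∀ x ∈ A i, F x ∈ A i) :
    deg (p := p) (k := k) (F : N → N) =
      ∑ i, deg (p := p) (k := k) ((F.restrict (hs i) : A i →ₛₗ[τ] A i) : A i → A i) := by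
  classical
  let v : ∀ i, Basis (Fin (finrank K(p, k) (A i))) K(p, k) (A i) := fun i => Module.finBasis _ _
  let B := hA.collectedBasis v
  let e := Fintype.equivFinOfCardEq (α := Σ i, Fin (finrank K(p, k) (A i))) (n := finrank K(p, k) N)
    (by rw [finrank_eq_card_basis B])
  have hne : ∀ i, (fmat (v i) (v i) (F.restrict (hs i))).det ≠ 0 := fun i =>
    det_fmat_ne_zero _ _ h _ (bijective_of_injective h fun a b hab =>
      Subtype.ext (hF.1 (congrArg Subtype.val hab))).2
  have hd := ord_det_fmat h F hF (B.reindex e) (B.reindex e)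
  rw [add_sub_cancel_right] at hd
  rw [← hd]
  have he : fmat (B.reindex e) (B.reindex e) F = (fmat B B F).submatrix e.symm e.symm := by
    refine Matrix.ext fun i j => ?_
    rw [Matrix.submatrix_apply, fmat_apply, fmat_apply, Basis.reindex_apply, Basis.repr_reindex_apply]
  rw [he, Matrix.det_submatrix_equiv_self]
  have hBj : ∀ j : Σ i, Fin (finrank K(p, k) (A i)), B j = ((v j.1 j.2 : A j.1) : N) := fun j => by
    simp only [B, DirectSum.IsInternal.collectedBasis_coe]
  have htri : (fmat B B F).BlockTriangular Sigma.fst := by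
    rintro ⟨i, a⟩ ⟨j, b⟩ hlt
    rw [fmat_apply, hBj]
    exact hA.collectedBasis_repr_of_mem_ne v (ne_of_gt (show j < i from hlt)).symm (hs j _ (v j b).2)
  rw [htri.det_fintype]
  have hblock : ∀ i, ((fmat B B F).toSquareBlock Sigma.fst i).det = (fmat (v i) (v i) (F.restrict (hs i))).det := by
    intro i
    rw [← Matrix.det_submatrix_equiv_self (Equiv.sigmaSubtype i).symm]
    congr 1
    refine Matrix.ext fun a b => ?_
    show (fmat B B F) ⟨i, a⟩ ⟨i, b⟩ = _
    rw [fmat_apply, fmat_apply, hBj]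
    exact hA.collectedBasis_repr_of_mem v (hs i _ (v i b).2)
  simp only [hblock]
  rw [ord_prod _ _ fun i _ => hne i]
  rfl

theorem deg_eq_of_isIsoclinic [Module.Finite K(p, k) N] (h : Tw τ) (hF : Function.Bijective F) {μ : ℚ}
    (hI : Isoc.IsIsoclinic F μ) :
    (deg (p := p) (k := k) (F : N → N) : ℚ) = μ * (finrank K(p, k) N : ℚ) := by
  obtain ⟨M, hM, r, s, hs, rfl, he⟩ := hI
  have h1 := deg_eq_of_latImg h hF he
  have hs' : (s : ℚ) ≠ 0 := by exact_mod_cast hs.ne'
  have h2 : (r : ℚ) * (finrank K(p, k) N : ℚ) = (s : ℚ) * deg (p := p) (k := k) (F : N → N) := by exact_mod_cast h1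
  field_simp
  linarith

theorem finsum_mul_newtonMult [Module.Finite K(p, k) N] (h : Tw τ) (hF : Function.Bijective F) :
    ∑ᶠ μ : ℚ, μ * (Isoc.newtonMult F μ : ℚ) = deg (p := p) (k := k) (F : N → N) := by
  classical
  have hind := iSupIndep_slopePart h hF.1 (F := F)
  haveI : Fintype {μ : ℚ // Isoc.slopePart F μ ≠ ⊥} := hind.fintypeNeBotOfFiniteDimensional
  have hint : DirectSum.IsInternal fun μ : {μ : ℚ // Isoc.slopePart F μ ≠ ⊥} => Isoc.slopePart F μ.1 :=
    DirectSum.isInternal_ne_bot_iff.2 (isInternal_slopePart h hF.1)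
  have hs := fun μ : {μ : ℚ // Isoc.slopePart F μ ≠ ⊥} => slopePart_stable (F := F) h μ.1
  rw [deg_eq_sum h hF _ hint hs, Int.cast_sum]
  let S : Finset ℚ := Finset.univ.map (Function.Embedding.subtype fun μ => Isoc.slopePart F μ ≠ ⊥)
  rw [finsum_eq_sum_of_support_subset _ (s := S) (fun μ hμ => ?_)]
  · rw [Finset.sum_map]
    refine Finset.sum_congr rfl fun μ _ => ?_
    obtain ⟨hPs, hPi⟩ := slopePart_mem (F := F) h μ.1
    exact (deg_eq_of_isIsoclinic h (bijective_of_injective h fun a b hab =>
      Subtype.ext (hF.1 (congrArg Subtype.val hab))) hPi).symm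
  · simp only [S, Finset.coe_map, Set.mem_image, Finset.coe_univ, Set.mem_univ, true_and]
    refine ⟨⟨μ, fun h0 => hμ ?_⟩, rfl⟩
    show μ * (Isoc.newtonMult F μ : ℚ) = 0
    rw [Isoc.newtonMult, h0, finrank_bot, Nat.cast_zero, mul_zero]

theorem newtonMult_eq_zero_of_bot {μ : ℚ} (h0 : Isoc.slopePart F μ = ⊥) : Isoc.newtonMult F μ = 0 := by
  rw [Isoc.newtonMult, h0, finrank_bot]

end Groth.Agent.IsocLib
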