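import Groth.Agent.Lib.Isoc.Lattice
import Mathlib.Analysis.Subadditive
import Mathlib.NumberTheory.DiophantineApproximation.Basic
import Mathlib.Order.Filter.AtTopBot.Basic
import Mathlib.Tactic.Linarith
import Mathlib.Tactic.FieldSimp

/-!
First slopes of isocrystals; effectivity; rationality.
-/

noncomputable section

open scoped Isocrystal Pointwise
open Module Filter Topology

universe u v

set_option linter.unusedSectionVars false

namespace Groth.Agent.IsocLib

variable {p : ℕ} [Fact p.Prime] {k : Type u} [Field k] [CharP k p] [PerfectRing k p]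

local notation "W" => WittVector p k

variable {N : Type v} [AddCommGroup N] [Module (WittVector p k) N] [Module K(p, k) N]
  [IsScalarTower (WittVector p k) K(p, k) N]
variable {τ : K(p, k) →+* K(p, k)}

/-- `F^n` maps `M` into `p^r M`. -/
def Div (M : Submodule W N) (F : N →ₛₗ[τ] N) (n : ℕ) (r : ℤ) : Prop :=
  ∀ x ∈ M, (⇑F)^[n] x ∈ Isoc.pPow r M

variable {M : Submodule (WittVector p k) N} {F : N →ₛₗ[τ] N}

theorem latImg_le_iff {n : ℕ} {r : ℤ} : Isoc.latImg F n M ≤ Isoc.pPow r M ↔ Div M F n r := by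
  rw [Isoc.latImg, Submodule.span_le, Set.image_subset_iff]
  exact Iff.rfl

theorem Div.anti {n : ℕ} {r r' : ℤ} (h : Div M F n r) (hr : r' ≤ r) : Div M F n r' :=
  fun x hx => pPow_anti hr M (h x hx)

theorem iterate_zpow_smul (F : N →ₛₗ[τ] N) (n : ℕ) (r : ℤ) (x : N) :
    (⇑F)^[n] ((p : K(p, k)) ^ r • x) = (p : K(p, k)) ^ r • (⇑F)^[n] x := by
  induction n with
  | zero => rfl
  | succ n ih => rw [Function.iterate_succ_apply', Function.iterate_succ_apply', ih, map_smulₛₗ, map_zpow_p]

theorem Div.add {n n' : ℕ} {r r' : ℤ} (h : Div M F n r) (h' : Div M F n' r') :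
    Div M F (n + n') (r + r') := by
  intro x hx
  rw [Function.iterate_add_apply, mem_pPow]
  have h1 := h _ (mem_pPow.1 (h' x hx))
  rw [iterate_zpow_smul, mem_pPow, smul_smul, ← zpow_add₀ p_ne_zero] at h1
  rwa [show -(r + r') = -r + -r' by ring]

theorem div_zero' (M : Submodule W N) (F : N →ₛₗ[τ] N) : Div M F 0 0 := fun x hx => by
  rwa [pPow_zero]

theorem Div.mul {n : ℕ} {r : ℤ} (h : Div M F n r) : ∀ j : ℕ, Div M F (n * j) (r * j)
  | 0 => by simpa using div_zero' M F
  | j + 1 => by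
    rw [Nat.mul_succ, Nat.cast_succ, mul_add, mul_one]
    exact (h.mul j).add h

/-- `p^m F^n`. -/
def sc (F : N →ₛₗ[τ] N) (m : ℤ) (n : ℕ) : N →ₛₗ[τ ^ n] N := (p : K(p, k)) ^ m • Isoc.iter F n

theorem sc_apply (F : N →ₛₗ[τ] N) (m : ℤ) (n : ℕ) (x : N) :
    sc F m n x = (p : K(p, k)) ^ m • (⇑F)^[n] x := rfl

theorem sc_iterate (F : N →ₛₗ[τ] N) (m : ℤ) (n j : ℕ) (x : N) :
    (⇑(sc F m n))^[j] x = (p : K(p, k)) ^ (m * j) • (⇑F)^[n * j] x := by
  induction j with
  | zero => simp
  | succ j ih =>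
    rw [Function.iterate_succ_apply', ih, sc_apply, iterate_zpow_smul, smul_smul, ← zpow_add₀ p_ne_zero,
      ← Function.iterate_add_apply]
    congr 2
    · push_cast; ring
    · ring

theorem div_sc_iff {m r : ℤ} {n j : ℕ} : Div M (sc F m n) j r ↔ Div M F (n * j) (r - m * j) := by
  refine forall₂_congr fun x _ => ?_
  rw [sc_iterate, mem_pPow, mem_pPow, smul_smul, ← zpow_add₀ p_ne_zero,
    show -(r - m * j) = -r + m * j by ring]

theorem bijective_sc (hF : Function.Bijective F) (m : ℤ) (n : ℕ) : Function.Bijective (sc F m n) := by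
  have h1 : Function.Bijective fun x : N => (p : K(p, k)) ^ m • x :=
    ⟨fun x y hxy => smul_right_injective N (zpow_p_ne_zero m) hxy,
      fun y => ⟨((p : K(p, k)) ^ m)⁻¹ • y, smul_inv_smul₀ (zpow_p_ne_zero m) y⟩⟩
  exact h1.comp (hF.iterate n)

section Finite

variable [Module.Finite K(p, k) N]

theorem deg_iter (h : Tw τ) (hF : Function.Bijective F) :
    ∀ n : ℕ, deg (p := p) (k := k) ((⇑F)^[n]) = n * deg (p := p) (k := k) (F : N → N)
  | 0 => by rw [Function.iterate_zero, deg_id]; simp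
  | n + 1 => by
    rw [Function.iterate_succ']
    have := deg_comp (h.pow n) h (Isoc.iter F n) F (hF.iterate n) hF
    rw [Isoc.coe_iter] at this
    rw [this, deg_iter h hF n]
    push_cast
    ring

theorem deg_sc (h : Tw τ) (hF : Function.Bijective F) (m : ℤ) (n : ℕ) :
    deg (p := p) (k := k) ((sc F m n : N →ₛₗ[τ ^ n] N) : N → N) =
      m * finrank K(p, k) N + n * deg (p := p) (k := k) (F : N → N) := by
  rw [← deg_iter h hF n]
  exact deg_smul (h.pow n) (Isoc.iter F n) (hF.iterate n) m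

theorem Div.det_le [M.IsLattice K(p, k)] {n : ℕ} {r : ℤ} (hd : Div M F n r) (h : Tw τ)
    (hF : Function.Bijective F) :
    r * finrank K(p, k) N ≤ n * deg (p := p) (k := k) (F : N → N) ∧
      (r * finrank K(p, k) N = n * deg (p := p) (k := k) (F : N → N) → Isoc.latImg F n M = Isoc.pPow r M) := by
  have hmaps : ∀ x ∈ M, sc F (-r) n x ∈ M := fun x hx => mem_pPow.1 (hd x hx)
  obtain ⟨h1, h2⟩ := vol_le_of_maps (h.pow n) (sc F (-r) n) (bijective_sc hF _ n) M M hmaps
  rw [deg_sc h hF] at h1 h2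
  refine ⟨by linarith, fun he => le_antisymm (latImg_le_iff.2 hd) fun y hy => ?_⟩
  obtain ⟨x, hx, hxy⟩ := (mem_img (h.pow n)).1 ((h2 (by linarith)).symm ▸ mem_pPow.1 hy)
  refine Submodule.subset_span ⟨x, hx, ?_⟩
  exact smul_right_injective N (zpow_p_ne_zero (-r)) hxy

theorem deg_eq_of_latImg [M.IsLattice K(p, k)] {n : ℕ} {r : ℤ} (h : Tw τ) (hF : Function.Bijective F)
    (he : Isoc.latImg F n M = Isoc.pPow r M) :
    r * finrank K(p, k) N = n * deg (p := p) (k := k) (F : N → N) := by
  haveI := isLattice_pPow r M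
  have h1 := vol_eq_of_onto (h.pow n) (Isoc.iter F n) (hF.iterate n) M (Isoc.pPow r M) he
  rw [vol_pPow, Isoc.coe_iter, deg_iter h hF] at h1
  linarith

theorem finrank_pos' [Nontrivial N] : (0 : ℤ) < finrank K(p, k) N := by exact_mod_cast Module.finrank_pos

theorem exists_isOrd [Nontrivial N] (M : Submodule W N) [hM : M.IsLattice K(p, k)] (h : Tw τ)
    (F : N →ₛₗ[τ] N) (hF : Function.Bijective F) (n : ℕ) : ∃ r : ℤ, Isoc.IsOrd M F n r := by
  classical
  obtain ⟨c, hc⟩ := exists_le_pPow (img_fg (h.pow n) (Isoc.iter F n) hM.fg) M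
  have hbdd : ∀ z : ℤ, Div M F n z → z ≤ max 0 ((n : ℤ) * deg (p := p) (k := k) (F : N → N)) := by
    intro z hz
    have h1 := (hz.det_le h hF).1
    rcases le_or_gt z 0 with hz0 | hz0
    · exact le_max_of_le_left hz0
    · refine le_max_of_le_right (le_trans ?_ h1)
      have := finrank_pos' (p := p) (k := k) (N := N)
      nlinarith
  obtain ⟨r, hr, hmax⟩ := Int.exists_greatest_of_bdd ⟨_, hbdd⟩ ⟨_, latImg_le_iff.1 ((latImg_eq F n M).trans_le hc)⟩
  refine ⟨r, latImg_le_iff.2 hr, fun hle => ?_⟩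
  have := hmax _ (latImg_le_iff.1 hle)
  omega

open Classical in
/-- The order of `F^n` relative to `M`. -/
def od (M : Submodule W N) (F : N →ₛₗ[τ] N) (n : ℕ) : ℤ :=
  if h : ∃ r, Isoc.IsOrd M F n r then h.choose else 0

theorem isOrd_unique {n : ℕ} {r r' : ℤ} (h : Isoc.IsOrd M F n r) (h' : Isoc.IsOrd M F n r') : r = r' := by
  by_contra hne
  rcases lt_or_gt_of_ne hne with hlt | hlt
  · exact h.2 (h'.1.trans (pPow_anti (by omega) M))
  · exact h'.2 (h.1.trans (pPow_anti (by omega) M))

theorem od_eq {n : ℕ} {r : ℤ} (h : Isoc.IsOrd M F n r) : od M F n = r := by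
  have hex : ∃ r, Isoc.IsOrd M F n r := ⟨r, h⟩
  rw [od, dif_pos hex]
  exact isOrd_unique hex.choose_spec h

variable [Nontrivial N] [M.IsLattice K(p, k)] (h : Tw τ) (hF : Function.Bijective F)

include h hF in
theorem isOrd_od (n : ℕ) : Isoc.IsOrd M F n (od M F n) := by
  obtain ⟨r, hr⟩ := exists_isOrd M h F hF n
  rwa [od_eq hr]

include h hF in
theorem div_od (n : ℕ) : Div M F n (od M F n) := latImg_le_iff.1 (isOrd_od h hF n).1

include h hF in
theorem le_od {n : ℕ} {r : ℤ} (hd : Div M F n r) : r ≤ od M F n := by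
  by_contra hlt
  exact (isOrd_od h hF n).2 (latImg_le_iff.2 (hd.anti (by omega)))

include h hF in
theorem div_iff_le_od {n : ℕ} {r : ℤ} : Div M F n r ↔ r ≤ od M F n :=
  ⟨le_od h hF, fun hle => (div_od h hF n).anti hle⟩

include h hF in
theorem od_zero : od M F 0 = 0 := by
  refine le_antisymm ?_ (le_od h hF (div_zero' M F))
  have := ((div_od (M := M) h hF 0).det_le h hF).1
  have hpos := finrank_pos' (p := p) (k := k) (N := N)
  simp only [Nat.cast_zero, zero_mul] at this
  nlinarith

include h hF in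
theorem subadditive_od : Subadditive fun n => -(od M F n : ℝ) := by
  intro m n
  have := le_od h hF ((div_od (M := M) h hF m).add (div_od h hF n))
  have : (od M F m : ℝ) + od M F n ≤ od M F (m + n) := by exact_mod_cast this
  linarith

include h hF in
theorem od_le (n : ℕ) : (od M F n : ℝ) * finrank K(p, k) N ≤ n * deg (p := p) (k := k) (F : N → N) := by
  exact_mod_cast ((div_od (M := M) h hF n).det_le h hF).1

include h hF in
theorem bddBelow_od : BddBelow (Set.range fun n => -(od M F n : ℝ) / n) := by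
  refine ⟨min 0 (-(deg (p := p) (k := k) (F : N → N) : ℝ) / finrank K(p, k) N), ?_⟩
  rintro _ ⟨n, rfl⟩
  rcases Nat.eq_zero_or_pos n with rfl | hn
  · simp
  refine le_trans (min_le_right _ _) ?_
  have hpos : (0 : ℝ) < finrank K(p, k) N := by exact_mod_cast Module.finrank_pos
  have hn' : (0 : ℝ) < n := by exact_mod_cast hn
  rw [div_le_div_iff₀ hpos hn']
  have := od_le (M := M) h hF n
  linarith

/-- The slope computed with a lattice. -/
def slopeAt (M : Submodule W N) [M.IsLattice K(p, k)] (h : Tw τ) (F : N →ₛₗ[τ] N) (hF : Function.Bijective F) : ℝ :=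
  -(subadditive_od (M := M) h hF).lim

include h hF in
theorem tendsto_od : Tendsto (fun n : ℕ => (od M F n : ℝ) / n) atTop (𝓝 (slopeAt M h F hF)) := by
  have h2 := ((subadditive_od (M := M) h hF).tendsto_lim (bddBelow_od h hF)).neg
  refine h2.congr fun n => ?_
  simp [neg_div]

include h hF in
theorem div_le_slopeAt {n : ℕ} (hn : n ≠ 0) {r : ℤ} (hd : Div M F n r) :
    (r : ℝ) / n ≤ slopeAt M h F hF := by
  have h1 := (subadditive_od (M := M) h hF).lim_le_div (bddBelow_od h hF) hn
  have h2 : (r : ℝ) / n ≤ (od M F n : ℝ) / n := by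
    gcongr
    exact_mod_cast le_od h hF hd
  rw [slopeAt]
  rw [neg_div] at h1
  linarith

include h hF in
theorem slopeAt_eq (M' : Submodule W N) [hM' : M'.IsLattice K(p, k)] :
    slopeAt M h F hF = slopeAt M' h F hF := by
  suffices key : ∀ (A B : Submodule W N) [A.IsLattice K(p, k)] [B.IsLattice K(p, k)],
      slopeAt A h F hF ≤ slopeAt B h F hF from le_antisymm (key M M') (key M' M)
  intro A B hA hB
  obtain ⟨a, ha⟩ := exists_le_pPow hB.fg A
  obtain ⟨b, hb⟩ := exists_le_pPow hA.fg B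
  have hle : ∀ n, (od A F n : ℝ) - ((a + b : ℕ) : ℝ) ≤ od B F n := by
    intro n
    have hd : Div B F n (od A F n - ((a + b : ℕ) : ℤ)) := by
      intro x hx
      have h1 := div_od (M := A) h hF n _ (mem_pPow.1 (ha hx))
      rw [iterate_zpow_smul, mem_pPow] at h1
      have h2 := mem_pPow.1 (hb h1)
      rw [mem_pPow]
      rw [smul_smul, smul_smul, ← zpow_add₀ p_ne_zero, ← zpow_add₀ p_ne_zero] at h2
      rw [show -(od A F n - ((a + b : ℕ) : ℤ)) = -(-(b : ℤ)) + -od A F n + -(-(a : ℤ)) by push_cast; ring]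
      exact h2
    exact_mod_cast le_od h hF hd
  have h0 : Tendsto (fun n : ℕ => (od A F n : ℝ) / n - ((a + b : ℕ) : ℝ) / n) atTop (𝓝 (slopeAt A h F hF)) := by
    simpa using (tendsto_od (M := A) h hF).sub (tendsto_const_nhds.div_atTop tendsto_natCast_atTop_atTop)
  refine le_of_tendsto_of_tendsto' h0 (tendsto_od (M := B) h hF) fun n => ?_
  rw [← sub_div]
  exact div_le_div_of_nonneg_right (hle n) (Nat.cast_nonneg n)

/-- The first slope. -/
def slope (h : Tw τ) (F : N →ₛₗ[τ] N) (hF : Function.Bijective F) : ℝ :=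
  letI : ((exists_lattice (p := p) (k := k) (N := N)).choose).IsLattice K(p, k) := exists_lattice.choose_spec
  slopeAt ((exists_lattice (p := p) (k := k) (N := N)).choose) h F hF

include h hF in
theorem slopeAt_eq_slope : slopeAt M h F hF = slope h F hF :=
  letI : ((exists_lattice (p := p) (k := k) (N := N)).choose).IsLattice K(p, k) := exists_lattice.choose_spec
  slopeAt_eq h hF _

include h hF in
theorem tendsto_slope : Tendsto (fun n : ℕ => (od M F n : ℝ) / n) atTop (𝓝 (slope h F hF)) :=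
  slopeAt_eq_slope (M := M) h hF ▸ tendsto_od h hF

include h hF in
theorem div_le_slope {n : ℕ} (hn : n ≠ 0) {r : ℤ} (hd : Div M F n r) : (r : ℝ) / n ≤ slope h F hF :=
  slopeAt_eq_slope (M := M) h hF ▸ div_le_slopeAt h hF hn hd

include h hF in
theorem tendsto_of_isOrd {o : ℕ → ℤ} (ho : ∀ n : ℕ, 1 ≤ n → Isoc.IsOrd M F n (o n)) :
    Tendsto (fun n : ℕ => (o n : ℝ) / n) atTop (𝓝 (slope h F hF)) :=
  (tendsto_slope (M := M) h hF).congr' ((eventually_ge_atTop 1).mono fun n hn => by rw [od_eq (ho n hn)])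

include h hF in
theorem exists_div_pos (hpos : 0 < slope h F hF) : ∃ n, 1 ≤ n ∧ Div M F n 1 := by
  obtain ⟨n, hn, hn1⟩ := (((tendsto_slope (M := M) h hF).eventually_const_lt hpos).and
    (eventually_ge_atTop 1)).exists
  refine ⟨n, hn1, (div_od h hF n).anti ?_⟩
  have : (0 : ℝ) < od M F n := by
    by_contra hle
    exact absurd hn (not_lt.2 (div_nonpos_of_nonpos_of_nonneg (not_lt.1 hle) (Nat.cast_nonneg n)))
  exact_mod_cast this

end Finite

theorem nontrivial_of_isFirstSlope {lam : ℝ} (hl : Isoc.IsFirstSlope F lam) : Nontrivial N := by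
  obtain ⟨M, -, o, ho, -⟩ := hl
  by_contra hn
  rw [not_nontrivial_iff_subsingleton] at hn
  exact (ho 1 le_rfl).2 (latImg_le_iff.2 fun x _ => by rw [Subsingleton.elim ((⇑F)^[1] x) 0]; exact zero_mem _)

theorem slope_eq_of_isFirstSlope [Module.Finite K(p, k) N] [Nontrivial N] (h : Tw τ)
    (hF : Function.Bijective F) {lam : ℝ} (hl : Isoc.IsFirstSlope F lam) : lam = slope h F hF := by
  obtain ⟨M, hM, o, ho, ht⟩ := hl
  exact tendsto_nhds_unique ht (tendsto_of_isOrd h hF ho)

theorem isFirstSlope_slope [Module.Finite K(p, k) N] [Nontrivial N] (h : Tw τ) (hF : Function.Bijective F) :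
    Isoc.IsFirstSlope F (slope h F hF) := by
  obtain ⟨M, hM⟩ := exists_lattice (p := p) (k := k) (N := N)
  exact ⟨M, hM, fun n => od M F n, fun n _ => isOrd_od h hF n, tendsto_slope h hF⟩

theorem slope_sc [Module.Finite K(p, k) N] [Nontrivial N] (h : Tw τ) (hF : Function.Bijective F)
    (m : ℤ) (n : ℕ) : slope (h.pow n) (sc F m n) (bijective_sc hF m n) = n * slope h F hF + m := by
  obtain ⟨M, hM⟩ := exists_lattice (p := p) (k := k) (N := N)
  have hG := bijective_sc hF m n
  have hod : ∀ j, od M (sc F m n) j = m * j + od M F (n * j) := by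
    intro j
    refine od_eq ⟨latImg_le_iff.2 (div_sc_iff.2 ?_), fun hle => ?_⟩
    · rw [add_sub_cancel_left]
      exact div_od h hF _
    · have := le_od h hF (div_sc_iff.1 (latImg_le_iff.1 hle))
      omega
  refine tendsto_nhds_unique (tendsto_slope (M := M) (h.pow n) hG) ?_
  rcases Nat.eq_zero_or_pos n with rfl | hn
  · refine tendsto_const_nhds.congr' ((eventually_ge_atTop 1).mono fun j hj => ?_)
    show _ = (od M (sc F m 0) j : ℝ) / j
    rw [hod, zero_mul, od_zero h hF]
    have : (j : ℝ) ≠ 0 := by exact_mod_cast (by omega : j ≠ 0)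
    push_cast
    field_simp
    simp
  · have h1 : Tendsto (fun j : ℕ => (n : ℝ) * ((od M F (n * j) : ℝ) / ((n * j : ℕ) : ℝ)) + m) atTop
        (𝓝 (n * slope h F hF + m)) := by
      refine (((tendsto_slope (M := M) h hF).comp ?_).const_mul (n : ℝ)).add_const _
      exact tendsto_atTop_mono (fun j => Nat.le_mul_of_pos_left j hn) tendsto_id
    refine h1.congr' ((eventually_ge_atTop 1).mono fun j hj => ?_)
    have : (j : ℝ) ≠ 0 := by exact_mod_cast (by omega : j ≠ 0)
    have : (n : ℝ) ≠ 0 := by exact_mod_cast (by omega : n ≠ 0)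
    show _ = (od M (sc F m n) j : ℝ) / j
    rw [hod]
    push_cast
    field_simp
    ring

end Groth.Agent.IsocLib
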