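import Groth.Agent.Lib.Isoc.Isoclinic
import Mathlib.Algebra.DirectSum.Module

/-!
The slope decomposition: splitting off the part of the first slope.
-/

noncomputable section

open scoped Isocrystal Pointwise
open Module

universe u v

set_option linter.unusedSectionVars false

namespace Groth.Agent.IsocLib

variable {p : ℕ} [Fact p.Prime] {k : Type u} [Field k] [CharP k p] [PerfectRing k p]

local notation "W" => WittVector p k
local notation "am" => algebraMap (WittVector p k) (FractionRing (WittVector p k))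

variable {N : Type v} [AddCommGroup N] [Module (WittVector p k) N] [Module K(p, k) N]
  [IsScalarTower (WittVector p k) K(p, k) N]
variable {τ : K(p, k) →+* K(p, k)} {F : N →ₛₗ[τ] N} {M : Submodule (WittVector p k) N}

theorem smul_mem_pPow (a : W) {j : ℤ} {x : N} (hx : x ∈ Isoc.pPow j M) : a • x ∈ Isoc.pPow j M :=
  (Isoc.pPow j M).smul_mem a hx

theorem pPow_natCast_le (M : Submodule W N) (j : ℕ) : Isoc.pPow (j : ℤ) M ≤ M :=
  (pPow_anti (Int.natCast_nonneg j) M).trans (pPow_zero M).le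

theorem iterate_mem_of_stable (hst : ∀ x ∈ M, F x ∈ M) (n : ℕ) : ∀ x ∈ M, (⇑F)^[n] x ∈ M := by
  induction n with
  | zero => exact fun x hx => hx
  | succ n ih => intro x hx; rw [Function.iterate_succ_apply']; exact hst _ (ih x hx)

theorem iterate_mem_pPow_of_stable (hst : ∀ x ∈ M, F x ∈ M) (n : ℕ) {j : ℤ} :
    ∀ x ∈ Isoc.pPow j M, (⇑F)^[n] x ∈ Isoc.pPow j M := fun x hx => by
  rw [mem_pPow] at hx ⊢
  rw [← iterate_zpow_smul]
  exact iterate_mem_of_stable hst n _ hx

theorem iterate_mem_pPow_mono (hst : ∀ x ∈ M, F x ∈ M) {m n : ℕ} (hmn : m ≤ n) {j : ℤ} {x : N}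
    (hx : (⇑F)^[m] x ∈ Isoc.pPow j M) : (⇑F)^[n] x ∈ Isoc.pPow j M := by
  obtain ⟨i, rfl⟩ := Nat.exists_eq_add_of_le hmn
  rw [Nat.add_comm, Function.iterate_add_apply]
  exact iterate_mem_pPow_of_stable hst i _ hx

theorem iterate_sub' (F : N →ₛₗ[τ] N) (n : ℕ) (x y : N) :
    (⇑F)^[n] (x - y) = (⇑F)^[n] x - (⇑F)^[n] y :=
  map_sub (Isoc.iter F n) x y

theorem iterate_add' (F : N →ₛₗ[τ] N) (n : ℕ) (x y : N) :
    (⇑F)^[n] (x + y) = (⇑F)^[n] x + (⇑F)^[n] y :=
  map_add (Isoc.iter F n) x y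

/-- The elements sent into `p^j M` by the `n`-th iterate. -/
def preP (h : Tw τ) (F : N →ₛₗ[τ] N) (M : Submodule (WittVector p k) N) (n : ℕ) (j : ℤ) :
    Submodule (WittVector p k) N where
  carrier := {x | (⇑F)^[n] x ∈ Isoc.pPow j M}
  zero_mem' := by
    show (⇑F)^[n] 0 ∈ Isoc.pPow j M
    rw [show (⇑F)^[n] (0 : N) = 0 from map_zero (Isoc.iter F n)]
    exact zero_mem _
  add_mem' := fun {x y} hx hy => by
    show (⇑F)^[n] (x + y) ∈ Isoc.pPow j M
    rw [iterate_add']
    exact add_mem hx hy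
  smul_mem' := fun a x hx => by
    obtain ⟨b, hb⟩ := semilinear_w_smul (h.pow n) (Isoc.iter F n) a x
    show (⇑F)^[n] (a • x) ∈ Isoc.pPow j M
    rw [show (⇑F)^[n] (a • x) = b • (⇑F)^[n] x from hb]
    exact Submodule.smul_mem _ b hx

/-- The `n`-th image with `p^j M` added. -/
def stab (F : N →ₛₗ[τ] N) (M : Submodule (WittVector p k) N) (j : ℕ) (n : ℕ) :
    Submodule (WittVector p k) N :=
  img (Isoc.iter F n) M ⊔ Isoc.pPow (j : ℤ) M

theorem mem_stab (h : Tw τ) {j n : ℕ} {x : N} :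
    x ∈ stab F M j n ↔ ∃ y ∈ M, x - (⇑F)^[n] y ∈ Isoc.pPow (j : ℤ) M := by
  rw [stab, Submodule.mem_sup]
  constructor
  · rintro ⟨a, ha, b, hb, rfl⟩
    obtain ⟨y, hy, rfl⟩ := (mem_img (h.pow n)).1 ha
    exact ⟨y, hy, by simpa using hb⟩
  · rintro ⟨y, hy, hxy⟩
    exact ⟨_, (mem_img (h.pow n)).2 ⟨y, hy, rfl⟩, _, hxy, by rw [Isoc.iter_apply]; abel⟩

theorem stab_anti (h : Tw τ) (hst : ∀ x ∈ M, F x ∈ M) (j : ℕ) {m n : ℕ} (hmn : m ≤ n) :
    stab F M j n ≤ stab F M j m := by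
  intro x hx
  obtain ⟨y, hy, hxy⟩ := (mem_stab h).1 hx
  obtain ⟨i, rfl⟩ := Nat.exists_eq_add_of_le hmn
  refine (mem_stab h).2 ⟨(⇑F)^[i] y, iterate_mem_of_stable hst i y hy, ?_⟩
  rwa [← Function.iterate_add_apply]

theorem stab_le (h : Tw τ) (hst : ∀ x ∈ M, F x ∈ M) (j n : ℕ) : stab F M j n ≤ M := by
  intro x hx
  obtain ⟨y, hy, hxy⟩ := (mem_stab h).1 hx
  simpa using add_mem (pPow_natCast_le M j hxy) (iterate_mem_of_stable hst n y hy)

section Lattice

variable [Module.Finite K(p, k) N] [M.IsLattice K(p, k)]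

theorem exists_stab_eq (h : Tw τ) (hst : ∀ x ∈ M, F x ∈ M) (j : ℕ) :
    ∃ n, ∀ m, n ≤ m → stab F M j n ≤ stab F M j m := by
  have hP : (Isoc.pPow (j : ℤ) M).IsLattice K(p, k) := isLattice_pPow _ M
  have hfg : M.FG := Submodule.IsLattice.fg (A := K(p, k))
  have hlat : ∀ n, (stab F M j n).IsLattice K(p, k) := fun n =>
    Submodule.IsLattice.of_le_of_isLattice_of_fg K(p, k) (le_sup_right (a := img (Isoc.iter F n) M))
      ((img_fg (h.pow n) _ hfg).sup hP.fg)
  obtain ⟨i, -, hi⟩ := exists_chain_eq' (stab F M j) (fun n => stab_anti h hst j n.le_succ)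
    (j * finrank K(p, k) N) fun n => by
      have h1 := (vol_anti (show Isoc.pPow (j : ℤ) M ≤ stab F M j n from le_sup_right)).1
      have h2 := (vol_anti (stab_le h hst j 0)).1
      have h3 : vol (Isoc.pPow (j : ℤ) M) = vol M + (j : ℤ) * finrank K(p, k) N := vol_pPow _ M
      push_cast
      linarith
  refine ⟨i, fun m hm => ?_⟩
  induction m, hm using Nat.le_induction with
  | base => exact le_rfl
  | succ m hm ih =>
    intro x hx
    rw [hi] at hx
    obtain ⟨y, hy, hxy⟩ := (mem_stab h).1 hx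
    have hy' : (⇑F)^[i] y ∈ stab F M j m := ih ((mem_stab h).2 ⟨y, hy, by simp⟩)
    obtain ⟨z, hz, hyz⟩ := (mem_stab h).1 hy'
    refine (mem_stab h).2 ⟨z, hz, ?_⟩
    have h4 := iterate_mem_pPow_of_stable hst 1 _ hyz
    rw [Function.iterate_one, map_sub, ← Function.iterate_succ_apply' (⇑F), ← Function.iterate_succ_apply' (⇑F)] at h4
    have := add_mem hxy h4
    simpa using this

/-- An index from which the images modulo `p^j` are stable. -/
def nj (h : Tw τ) (hst : ∀ x ∈ M, F x ∈ M) (j : ℕ) : ℕ := (exists_stab_eq h hst j).choose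

/-- The stable image modulo `p^j`. -/
def stabS (h : Tw τ) (hst : ∀ x ∈ M, F x ∈ M) (j : ℕ) : Submodule (WittVector p k) N :=
  stab F M j (nj h hst j)

theorem stabS_le_stab (h : Tw τ) (hst : ∀ x ∈ M, F x ∈ M) (j n : ℕ) : stabS h hst j ≤ stab F M j n := by
  rcases le_total n (nj h hst j) with hle | hle
  · exact stab_anti h hst j hle
  · exact (exists_stab_eq h hst j).choose_spec n hle

theorem stabS_le (h : Tw τ) (hst : ∀ x ∈ M, F x ∈ M) (j : ℕ) : stabS h hst j ≤ M := stab_le h hst j _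

theorem pPow_le_stabS (h : Tw τ) (hst : ∀ x ∈ M, F x ∈ M) (j : ℕ) : Isoc.pPow (j : ℤ) M ≤ stabS h hst j :=
  le_sup_right

theorem iterate_mem_stabS (h : Tw τ) (hst : ∀ x ∈ M, F x ∈ M) {j n : ℕ} (hn : nj h hst j ≤ n) {x : N}
    (hx : x ∈ M) : (⇑F)^[n] x ∈ stabS h hst j :=
  stab_anti h hst j hn ((mem_stab h).2 ⟨x, hx, by simp⟩)

theorem stabS_succ_le (h : Tw τ) (hst : ∀ x ∈ M, F x ∈ M) (j : ℕ) : stabS h hst (j + 1) ≤ stabS h hst j :=
  (stabS_le_stab h hst (j + 1) (nj h hst j)).trans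
    (sup_le_sup_left (pPow_anti (by omega : (j : ℤ) ≤ ((j + 1 : ℕ) : ℤ)) M) _)

theorem exists_stabS_preimage (h : Tw τ) (hst : ∀ x ∈ M, F x ∈ M) (j n : ℕ) {x : N} (hx : x ∈ stabS h hst j) :
    ∃ y ∈ stabS h hst j, x - (⇑F)^[n] y ∈ Isoc.pPow (j : ℤ) M := by
  obtain ⟨z, hz, hxz⟩ := (mem_stab h).1 (stabS_le_stab h hst j (n + nj h hst j) hx)
  exact ⟨_, iterate_mem_stabS h hst le_rfl hz, by rwa [← Function.iterate_add_apply]⟩

/-- The iterates are injective modulo `p^j` on the stable image. -/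
theorem mem_pPow_of_iterate (h : Tw τ) (hst : ∀ x ∈ M, F x ∈ M) (j n : ℕ) {x : N} (hx : x ∈ stabS h hst j)
    (hn : (⇑F)^[n] x ∈ Isoc.pPow (j : ℤ) M) : x ∈ Isoc.pPow (j : ℤ) M := by
  have hnoeth : IsNoetherian W M :=
    isNoetherian_of_fg_of_noetherian M (Submodule.IsLattice.fg (A := K(p, k)))
  let P : ℕ →o Submodule W M :=
    { toFun := fun m => (preP h F M m (j : ℤ) ⊓ stabS h hst j).comap M.subtype
      monotone' := fun a b hab y hy => ⟨iterate_mem_pPow_mono hst hab hy.1, hy.2⟩ }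
  obtain ⟨m, hm⟩ := (monotone_stabilizes_iff_noetherian.2 hnoeth) P
  obtain ⟨y, hy, hxy⟩ := exists_stabS_preimage h hst j (max m n) hx
  have hxm : (⇑F)^[max m n] x ∈ Isoc.pPow (j : ℤ) M := iterate_mem_pPow_mono hst (le_max_right _ _) hn
  have h2 : (⇑F)^[max m n + max m n] y ∈ Isoc.pPow (j : ℤ) M := by
    have := sub_mem hxm (iterate_mem_pPow_of_stable hst (max m n) _ hxy)
    rwa [← iterate_sub', sub_sub_cancel, ← Function.iterate_add_apply] at this
  have h3 : (⟨y, stabS_le h hst j hy⟩ : M) ∈ P m := by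
    rw [hm (max m n + max m n) (by omega)]
    exact ⟨h2, hy⟩
  have h4 := iterate_mem_pPow_mono hst (le_max_left m n) h3.1
  simpa using add_mem hxy h4

theorem exists_limit (x : ℕ → N) (hx : ∀ j, x j ∈ M) (hd : ∀ j : ℕ, x (j + 1) - x j ∈ Isoc.pPow (j : ℤ) M) :
    ∃ l ∈ M, ∀ j : ℕ, l - x j ∈ Isoc.pPow (j : ℤ) M := by
  have hinj := IsFractionRing.injective W K(p, k)
  have hp : ∀ j : ℕ, (p : K(p, k)) ^ (j : ℤ) = am ((p : W) ^ j) := fun j => by
    rw [zpow_natCast, map_pow, map_natCast]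
  let c : Fin (finrank K(p, k) N) → ℕ → W := fun i j => (lbasis M).repr ⟨x j, hx j⟩ i
  have hc : ∀ i j, (Lb M).repr (x j) i = am (c i j) := fun i j => Lb_repr M ⟨x j, hx j⟩ i
  have hstep : ∀ i j, c i (j + 1) - c i j ∈ Ideal.span {(p : W) ^ j} := by
    intro i j
    obtain ⟨a, ha⟩ := (mem_iff_repr M _).1 (mem_pPow.1 (hd j)) i
    rw [map_smul, Finsupp.smul_apply, map_sub, Finsupp.sub_apply, hc, hc, ← map_sub, smul_eq_mul, zpow_neg,
      inv_mul_eq_iff_eq_mul₀ (zpow_p_ne_zero _), hp, ← map_mul] at ha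
    exact Ideal.mem_span_singleton.2 ⟨a, hinj ha⟩
  have hlim : ∀ i, ∃ l : W, ∀ j, c i j - l ∈ Ideal.span {(p : W) ^ j} := by
    intro i
    obtain ⟨l, hl⟩ := IsPrecomplete.prec (I := Ideal.span {(p : W)}) inferInstance (f := c i) (fun {m n} hmn => by
      rw [Ideal.smul_eq_mul, Ideal.mul_top, Ideal.span_singleton_pow, SModEq.sub_mem]
      induction n, hmn using Nat.le_induction with
      | base => simp
      | succ n hn ih =>
        have := (Ideal.span_singleton_le_span_singleton.2 (pow_dvd_pow (p : W) hn)) (hstep i n)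
        simpa using sub_mem ih this)
    refine ⟨l, fun j => ?_⟩
    have := hl j
    rwa [Ideal.smul_eq_mul, Ideal.mul_top, Ideal.span_singleton_pow, SModEq.sub_mem] at this
  choose l hl using hlim
  refine ⟨∑ i, am (l i) • Lb M i, Submodule.sum_mem _ fun i _ => ?_, fun j => ?_⟩
  · rw [← w_smul]; exact M.smul_mem _ (Lb_mem M i)
  · rw [mem_pPow, mem_iff_repr]
    intro i
    obtain ⟨a, ha⟩ := Ideal.mem_span_singleton.1 (hl i j)
    refine ⟨-a, ?_⟩
    rw [map_smul, Finsupp.smul_apply, map_sub, Finsupp.sub_apply, hc,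
      show (Lb M).repr (∑ i, am (l i) • Lb M i) i = am (l i) from congrFun ((Lb M).repr_sum_self _) i,
      ← map_sub, smul_eq_mul, zpow_neg, inv_mul_eq_iff_eq_mul₀ (zpow_p_ne_zero _), hp, ← map_mul]
    exact congrArg am (by rw [mul_neg, ← ha]; ring)

/-- The part on which `F` is bijective. -/
def unitPart (h : Tw τ) (hst : ∀ x ∈ M, F x ∈ M) : Submodule (WittVector p k) N :=
  ⨅ j, stabS h hst j

theorem mem_unitPart (h : Tw τ) (hst : ∀ x ∈ M, F x ∈ M) {x : N} :
    x ∈ unitPart h hst ↔ ∀ j, x ∈ stabS h hst j := by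
  simp [unitPart]

theorem unitPart_le (h : Tw τ) (hst : ∀ x ∈ M, F x ∈ M) : unitPart h hst ≤ M :=
  (iInf_le _ 0).trans (stabS_le h hst 0)

theorem map_mem_stabS (h : Tw τ) (hst : ∀ x ∈ M, F x ∈ M) {j : ℕ} {x : N} (hx : x ∈ stabS h hst j) :
    F x ∈ stabS h hst j := by
  obtain ⟨y, hy, hxy⟩ := (mem_stab h).1 hx
  refine (mem_stab h).2 ⟨F y, hst y hy, ?_⟩
  have := iterate_mem_pPow_of_stable hst 1 _ hxy
  rwa [Function.iterate_one, map_sub, ← Function.iterate_succ_apply' (⇑F), Function.iterate_succ_apply] at this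

theorem pure_unitPart (h : Tw τ) (hst : ∀ x ∈ M, F x ∈ M) :
    ⇑F '' (unitPart h hst : Set N) = unitPart h hst := by
  refine Set.Subset.antisymm ?_ fun e he => ?_
  · rintro _ ⟨x, hx, rfl⟩
    exact (mem_unitPart h hst).2 fun j => map_mem_stabS h hst ((mem_unitPart h hst).1 hx j)
  · have he' := (mem_unitPart h hst).1 he
    choose f hf hef using fun j => exists_stabS_preimage h hst j 1 (he' j)
    have hd : ∀ j : ℕ, f (j + 1) - f j ∈ Isoc.pPow (j : ℤ) M := fun j => by
      refine mem_pPow_of_iterate h hst j 1 (sub_mem (stabS_succ_le h hst j (hf _)) (hf j)) ?_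
      rw [iterate_sub']
      have := sub_mem (hef j) (pPow_anti (by omega : (j : ℤ) ≤ ((j + 1 : ℕ) : ℤ)) M (hef (j + 1)))
      simpa using this
    obtain ⟨l, -, hl⟩ := exists_limit (M := M) f (fun j => stabS_le h hst j (hf j)) hd
    refine ⟨l, (mem_unitPart h hst).2 fun j => by
      simpa using add_mem (hf j) (pPow_le_stabS h hst j (hl j)), ?_⟩
    rw [← sub_eq_zero]
    refine eq_zero_of_forall_mem_pPow M fun j => ?_
    have h1 := iterate_mem_pPow_of_stable hst 1 _ (hl j)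
    rw [Function.iterate_one, map_sub] at h1
    have := sub_mem h1 (hef j)
    rw [Function.iterate_one] at this
    simpa [sub_sub_sub_cancel_right] using this

/-- The topologically nilpotent vectors. -/
def nilPart (h : Tw τ) (F : N →ₛₗ[τ] N) (M : Submodule (WittVector p k) N)
    (hst : ∀ x ∈ M, F x ∈ M) : Submodule K(p, k) N where
  carrier := {x | ∀ j : ℤ, ∃ n, (⇑F)^[n] x ∈ Isoc.pPow j M}
  zero_mem' := fun j => ⟨0, zero_mem _⟩
  add_mem' := fun {x y} hx hy j => by
    obtain ⟨m, hm⟩ := hx j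
    obtain ⟨n, hn⟩ := hy j
    exact ⟨max m n, by
      rw [iterate_add']
      exact add_mem (iterate_mem_pPow_mono hst (le_max_left _ _) hm) (iterate_mem_pPow_mono hst (le_max_right _ _) hn)⟩
  smul_mem' := fun c x hx j => by
    obtain ⟨t, w, hw⟩ := exists_zpow_smul_mem c
    obtain ⟨n, hn⟩ := hx (j + t)
    refine ⟨n, ?_⟩
    have hwx : (p : K(p, k)) ^ (t : ℤ) • c • x = w • x := by rw [smul_smul, hw, ← w_smul]
    obtain ⟨b, hb⟩ := semilinear_w_smul (h.pow n) (Isoc.iter F n) w x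
    have h1 : (p : K(p, k)) ^ (t : ℤ) • (⇑F)^[n] (c • x) ∈ Isoc.pPow (j + t) M := by
      rw [← iterate_zpow_smul, hwx, show (⇑F)^[n] (w • x) = b • (⇑F)^[n] x from hb]
      exact smul_mem_pPow b hn
    rw [mem_pPow] at h1 ⊢
    rwa [smul_smul, ← zpow_add₀ p_ne_zero, show -(j + (t : ℤ)) + t = -j by ring] at h1

theorem disjoint_unit_nil (h : Tw τ) (hst : ∀ x ∈ M, F x ∈ M) {x : N} (hx : x ∈ unitPart h hst)
    (hx' : x ∈ nilPart h F M hst) : x = 0 :=
  eq_zero_of_forall_mem_pPow M fun j => by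
    obtain ⟨n, hn⟩ := hx' (j : ℤ)
    exact mem_pPow_of_iterate h hst j n ((mem_unitPart h hst).1 hx j) hn

theorem le_unit_sup_nil (h : Tw τ) (hst : ∀ x ∈ M, F x ∈ M) {x : N} (hx : x ∈ M) :
    ∃ e ∈ unitPart h hst, x - e ∈ nilPart h F M hst := by
  choose e he hxe using fun j =>
    exists_stabS_preimage h hst j (nj h hst j) (iterate_mem_stabS h hst (le_refl (nj h hst j)) hx)
  have hxe' : ∀ j n, nj h hst j ≤ n → (⇑F)^[n] (x - e j) ∈ Isoc.pPow (j : ℤ) M := fun j n hn => by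
    refine iterate_mem_pPow_mono hst hn ?_
    rw [iterate_sub']
    exact hxe j
  have hd : ∀ j : ℕ, e (j + 1) - e j ∈ Isoc.pPow (j : ℤ) M := fun j => by
    refine mem_pPow_of_iterate h hst j (max (nj h hst j) (nj h hst (j + 1)))
      (sub_mem (stabS_succ_le h hst j (he _)) (he j)) ?_
    have := sub_mem (hxe' j _ (le_max_left _ (nj h hst (j + 1))))
      (pPow_anti (by omega : (j : ℤ) ≤ ((j + 1 : ℕ) : ℤ)) M (hxe' (j + 1) _ (le_max_right (nj h hst j) _)))
    rwa [← iterate_sub', sub_sub_sub_cancel_left] at this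
  obtain ⟨l, -, hl⟩ := exists_limit (M := M) e (fun j => stabS_le h hst j (he j)) hd
  refine ⟨l, (mem_unitPart h hst).2 fun j => by
    simpa using add_mem (he j) (pPow_le_stabS h hst j (hl j)), fun j => ?_⟩
  obtain ⟨i, hi⟩ : ∃ i : ℕ, j ≤ i := ⟨j.toNat, Int.self_le_toNat j⟩
  refine ⟨nj h hst i, pPow_anti hi M ?_⟩
  have := sub_mem (hxe' i _ le_rfl) (iterate_mem_pPow_of_stable hst (nj h hst i) _ (hl i))
  rwa [← iterate_sub', sub_sub_sub_cancel_right] at this

theorem map_mem_nilPart (h : Tw τ) (hst : ∀ x ∈ M, F x ∈ M) {τ' : K(p, k) →+* K(p, k)} (h' : Tw τ')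
    (H : N →ₛₗ[τ'] N) (hc : ∀ x, H (F x) = F (H x)) {x : N} (hx : x ∈ nilPart h F M hst) :
    H x ∈ nilPart h F M hst := fun j => by
  obtain ⟨c, hc'⟩ := exists_le_pPow (img_fg h' H (Submodule.IsLattice.fg (A := K(p, k)) (M := M))) M
  obtain ⟨n, hn⟩ := hx (j + c)
  refine ⟨n, ?_⟩
  rw [← (Function.Semiconj.iterate_right (f := ⇑H) (fun y => hc y) n) x]
  have h1 := mem_pPow.1 (hc' ((mem_img h').2 ⟨_, mem_pPow.1 hn, rfl⟩))
  rw [map_smulₛₗ, map_zpow_p, smul_smul, ← zpow_add₀ p_ne_zero,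
    show -(-(c : ℤ)) + -(j + c) = -j by ring] at h1
  exact mem_pPow.2 h1

theorem map_mem_unitPart (h : Tw τ) (hst : ∀ x ∈ M, F x ∈ M) {τ' : K(p, k) →+* K(p, k)} (h' : Tw τ')
    (H : N →ₛₗ[τ'] N) (hc : ∀ x, H (F x) = F (H x)) :
    ∃ c : ℕ, ∀ x ∈ unitPart h hst, (p : K(p, k)) ^ (c : ℤ) • H x ∈ unitPart h hst := by
  obtain ⟨c, hc'⟩ := exists_le_pPow (img_fg h' H (Submodule.IsLattice.fg (A := K(p, k)) (M := M))) M
  refine ⟨c, fun x hx => (mem_unitPart h hst).2 fun j => ?_⟩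
  obtain ⟨y, hy, rfl⟩ : x ∈ (⇑F)^[nj h hst j] '' (unitPart h hst : Set N) := by
    have himg : ∀ n, (⇑F)^[n] '' (unitPart h hst : Set N) = unitPart h hst := fun n => by
      induction n with
      | zero => simp
      | succ n ih => rw [Function.iterate_succ', Set.image_comp, ih, pure_unitPart]
    rw [himg]; exact hx
  rw [(Function.Semiconj.iterate_right (f := ⇑H) (fun y => hc y) _) y, ← iterate_zpow_smul]
  refine iterate_mem_stabS h hst le_rfl ?_
  have := mem_pPow.1 (hc' ((mem_img h').2 ⟨y, unitPart_le h hst hy, rfl⟩))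
  rwa [neg_neg] at this

end Lattice

theorem span_mem_isoSet [Module.Finite K(p, k) N] (h : Tw τ) {E : Submodule W N} (hfg : E.FG) {r : ℤ} {s : ℕ}
    (hs : 0 < s) (hP : Pure E F r s) (hstab : ∀ x ∈ E, F x ∈ Submodule.span K(p, k) (E : Set N)) :
    Submodule.span K(p, k) (E : Set N) ∈ isoSet F ((r : ℚ) / s) := by
  set P := Submodule.span K(p, k) (E : Set N) with hPdef
  have hPs : ∀ x ∈ P, F x ∈ P := fun x hx => by
    refine Submodule.span_induction hstab (by rw [map_zero]; exact zero_mem _)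
      (fun a b _ _ ha hb => by rw [map_add]; exact add_mem ha hb)
      (fun c a _ ha => by rw [map_smulₛₗ]; exact Submodule.smul_mem _ _ ha) hx
  refine ⟨hPs, (isIsoclinic_iff h).2 ⟨E.comap (P.subtype.restrictScalars W), ⟨?_, ?_⟩, r, s, hs, rfl, ?_⟩⟩
  · refine Submodule.fg_of_fg_map_injective (P.subtype.restrictScalars W) P.subtype_injective ?_
    have hE : E ≤ LinearMap.range (P.subtype.restrictScalars W) :=
      fun x hx => ⟨⟨x, Submodule.subset_span hx⟩, rfl⟩
    rw [Submodule.map_comap_eq, inf_eq_right.2 hE]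
    exact hfg
  · exact Submodule.span_span_coe_preimage
  · rw [Pure]
    ext ⟨y, hy⟩
    constructor
    · rintro ⟨z, hz, hzy⟩
      have hy' : sc F (-r) s z.1 = y :=
        (semiconj_sc (F := F.restrict hPs) (F' := F) (f := P.subtype) (fun _ => rfl) (-r) s z).symm.trans
          (congrArg Subtype.val hzy)
      show y ∈ (E : Set N)
      rw [← hP, ← hy']
      exact ⟨z.1, hz, rfl⟩
    · intro hy'
      have hy'' : y ∈ (E : Set N) := hy'
      rw [← hP] at hy''
      obtain ⟨z, hz, hzy⟩ := hy''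
      refine ⟨⟨z, Submodule.subset_span hz⟩, hz, Subtype.ext ?_⟩
      exact (semiconj_sc (F := F.restrict hPs) (F' := F) (f := P.subtype) (fun _ => rfl) (-r) s
        ⟨z, Submodule.subset_span hz⟩).trans hzy

/-- Splitting off the part of the first slope. -/
theorem exists_split [Module.Finite K(p, k) N] [Nontrivial N] (h : Tw τ) (hF : Function.Bijective F) :
    ∃ (μ : ℚ) (E K' : Submodule K(p, k) N), E ∈ isoSet F μ ∧ E ≠ ⊥ ∧ (∀ x ∈ K', F x ∈ K') ∧
      E ⊔ K' = ⊤ ∧ E ⊓ K' = ⊥ := by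
  obtain ⟨r, s, hs, -, hl⟩ := slope_rational h hF
  have hG := bijective_sc hF (-r) s
  have hG0 : slope (h.pow s) (sc F (-r) s) hG = 0 := by
    rw [slope_sc h hF, hl]
    have : (s : ℝ) ≠ 0 := by exact_mod_cast hs.ne'
    push_cast
    field_simp
    ring
  obtain ⟨M, hM, hst⟩ := exists_stable_of_slope_nonneg (h.pow s) hG hG0.ge
  set E₀ := unitPart (h.pow s) hst with hE₀
  have hcomm : ∀ x, F (sc F (-r) s x) = sc F (-r) s (F x) := fun x => by
    rw [sc_apply, sc_apply, map_smulₛₗ, map_zpow_p, ← Function.iterate_succ_apply' F,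
      Function.iterate_succ_apply]
  have hfg : E₀.FG := by
    have : IsNoetherian W M := isNoetherian_of_fg_of_noetherian M hM.fg
    exact isNoetherian_submodule.1 this _ (unitPart_le _ hst)
  have hstab : ∀ x ∈ E₀, F x ∈ Submodule.span K(p, k) (E₀ : Set N) := fun x hx => by
    obtain ⟨c, hc⟩ := map_mem_unitPart (h.pow s) hst h F hcomm
    have := Submodule.smul_mem _ ((p : K(p, k)) ^ (c : ℤ))⁻¹ (Submodule.subset_span (R := K(p, k)) (hc x hx))
    rwa [inv_smul_smul₀ (zpow_p_ne_zero _)] at this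
  refine ⟨(r : ℚ) / s, Submodule.span K(p, k) (E₀ : Set N), nilPart (h.pow s) (sc F (-r) s) M hst,
    span_mem_isoSet h hfg hs (pure_unitPart (h.pow s) hst) hstab, fun h0 => ?_,
    fun x hx => map_mem_nilPart (h.pow s) hst h F hcomm hx, ?_, ?_⟩
  · have hall : ∀ x ∈ M, x ∈ nilPart (h.pow s) (sc F (-r) s) M hst := fun x hx => by
      obtain ⟨e, he, hxe⟩ := le_unit_sup_nil (h.pow s) hst hx
      have : e = 0 := by
        have := Submodule.subset_span (R := K(p, k)) (s := (E₀ : Set N)) he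
        rwa [h0, SetLike.mem_coe, Submodule.mem_bot] at this
      rwa [this, sub_zero] at hxe
    obtain ⟨S, hS⟩ := hM.fg
    classical
    choose n hn using fun x : S => hall x.1 (hS ▸ Submodule.subset_span x.2) (1 : ℤ)
    have hd : Div M (sc F (-r) s) (Finset.univ.sup n + 1) 1 := by
      intro x hx
      have hle : M ≤ preP (h.pow s) (sc F (-r) s) M (Finset.univ.sup n + 1) 1 := by
        conv_lhs => rw [← hS]
        rw [Submodule.span_le]
        exact fun y hy => iterate_mem_pPow_mono hst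
          ((Finset.le_sup (Finset.mem_univ (⟨y, hy⟩ : S))).trans (Nat.le_succ _)) (hn ⟨y, hy⟩)
      exact hle hx
    have := div_le_slope (M := M) (h.pow s) hG (Nat.succ_ne_zero _) hd
    rw [hG0] at this
    have h1 : (0 : ℝ) < ((1 : ℤ) : ℝ) / ((Finset.univ.sup n + 1 : ℕ) : ℝ) := by positivity
    linarith
  · rw [eq_top_iff, ← hM.span_eq_top, Submodule.span_le]
    intro x hx
    obtain ⟨e, he, hxe⟩ := le_unit_sup_nil (h.pow s) hst hx
    simpa using Submodule.add_mem_sup (Submodule.subset_span (R := K(p, k)) (s := (E₀ : Set N)) he) hxe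
  · rw [eq_bot_iff]
    rintro x ⟨hx, hx'⟩
    have key : ∃ c : ℕ, (p : K(p, k)) ^ (c : ℤ) • x ∈ E₀ := by
      clear hx'
      suffices H : ∀ a : K(p, k), ∃ c : ℕ, (p : K(p, k)) ^ (c : ℤ) • a • x ∈ E₀ by simpa using H 1
      refine Submodule.span_induction (p := fun x _ => ∀ a : K(p, k), ∃ c : ℕ, (p : K(p, k)) ^ (c : ℤ) • a • x ∈ E₀)
        (fun y hy a => ?_) (fun a => ⟨0, by simp⟩) (fun y z _ _ hy hz a => ?_)
        (fun d y _ hy a => by rw [smul_smul a d]; exact hy _) hx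
      · obtain ⟨n, w, hw⟩ := exists_zpow_smul_mem a
        refine ⟨n, ?_⟩
        rw [smul_smul, hw, ← w_smul]
        exact E₀.smul_mem _ hy
      · obtain ⟨n, hn⟩ := hy a
        obtain ⟨m, hm⟩ := hz a
        refine ⟨n + m, ?_⟩
        rw [smul_add, smul_add, Nat.cast_add, zpow_add₀ p_ne_zero, mul_smul, mul_smul]
        refine add_mem ?_ (natCast_zpow_smul_mem hm (Int.natCast_nonneg n))
        rw [← mul_smul, mul_comm, mul_smul]
        exact natCast_zpow_smul_mem hn (Int.natCast_nonneg m)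
    obtain ⟨c, hc⟩ := key
    have := disjoint_unit_nil (h.pow s) hst hc (Submodule.smul_mem _ _ hx')
    rw [Submodule.mem_bot]
    exact (smul_eq_zero.1 this).resolve_left (zpow_p_ne_zero _)

theorem iSup_slopePart [Module.Finite K(p, k) N] (h : Tw τ) (hF : Function.Injective F) :
    ⨆ μ : ℚ, Isoc.slopePart F μ = ⊤ := by
  suffices H : ∀ n (P : Submodule K(p, k) N) (hP : ∀ x ∈ P, F x ∈ P), finrank K(p, k) P = n →
      P ≤ ⨆ μ : ℚ, Isoc.slopePart F μ from
    eq_top_iff.2 (H _ ⊤ (fun _ _ => trivial) rfl)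
  intro n
  induction n using Nat.strong_induction_on with
  | _ n ih =>
    intro P hP hn
    rcases subsingleton_or_nontrivial P with hsub | hnt
    · intro x hx
      have := congrArg Subtype.val (Subsingleton.elim (⟨x, hx⟩ : P) 0)
      rw [show x = 0 from this]
      exact zero_mem _
    · have hPb : Function.Bijective (F.restrict hP) :=
        bijective_of_injective h fun a b hab => Subtype.ext (hF (congrArg Subtype.val hab))
      obtain ⟨μ, E, K', ⟨hEs, hEi⟩, hE0, hK', hsup, hinf⟩ := exists_split h hPb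
      have hEmem : E.map P.subtype ∈ isoSet F μ := by
        have hs' : ∀ x ∈ E.map P.subtype, F x ∈ E.map P.subtype := by
          rintro _ ⟨y, hy, rfl⟩
          exact ⟨_, hEs y hy, rfl⟩
        refine ⟨hs', isIsoclinic_of_surjective h hEi
          ((P.subtype.domRestrict E).codRestrict (E.map P.subtype) fun x => ⟨x, x.2, rfl⟩)
          (fun x => Subtype.ext rfl) ?_⟩
        rintro ⟨_, y, hy, rfl⟩
        exact ⟨⟨y, hy⟩, rfl⟩
      have hK's : ∀ x ∈ K'.map P.subtype, F x ∈ K'.map P.subtype := by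
        rintro _ ⟨y, hy, rfl⟩
        exact ⟨_, hK' y hy, rfl⟩
      have hlt : finrank K(p, k) (K'.map P.subtype) < n := by
        rw [← hn, Submodule.finrank_map_subtype_eq]
        refine Submodule.finrank_lt fun e => ?_
        rw [e, inf_top_eq] at hinf
        exact hE0 hinf
      have hKle := ih _ hlt _ hK's rfl
      intro x hx
      have hx' : (⟨x, hx⟩ : P) ∈ E ⊔ K' := by rw [hsup]; trivial
      obtain ⟨a, ha, b, hb, hab⟩ := Submodule.mem_sup.1 hx'
      rw [show x = (a : N) + b from (congrArg Subtype.val hab).symm]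
      refine add_mem ?_ (hKle ⟨b, hb, rfl⟩)
      exact Submodule.mem_iSup_of_mem μ (le_slopePart hEmem ⟨a, ha, rfl⟩)

theorem isInternal_slopePart [Module.Finite K(p, k) N] (h : Tw τ) (hF : Function.Injective F) :
    DirectSum.IsInternal fun μ : ℚ => Isoc.slopePart F μ :=
  DirectSum.isInternal_submodule_of_iSupIndep_of_iSup_eq_top (iSupIndep_slopePart h hF) (iSup_slopePart h hF)

end Groth.Agent.IsocLib
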