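import Groth.Agent.Lib.Isoc.Effective

/-!
Glue between the statements on isocrystals and the library.
-/

noncomputable section

open scoped Isocrystal
open Module

universe u v

namespace Groth.Agent.IsocLib

variable {p : ℕ} [Fact p.Prime] {k : Type u} [Field k] [CharP k p] [PerfectRing k p]

variable {N : Type v} [AddCommGroup N] [Module (WittVector p k) N] [Module K(p, k) N]
  [IsScalarTower (WittVector p k) K(p, k) N]
variable {τ : K(p, k) →+* K(p, k)} {F : N →ₛₗ[τ] N}

theorem orddet_eq [Module.Finite K(p, k) N] (hτ : Tw τ) (hF : Function.Bijective F) {h : ℕ}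
    (b : Basis (Fin h) K(p, k) N) {d : ℤ} (hd : Isoc.IsOrdP (Isoc.detCoeff b F) d) :
    d = deg (p := p) (k := k) (F : N → N) ∧ h = finrank K(p, k) N := by
  refine ⟨?_, by rw [finrank_eq_card_basis b, Fintype.card_fin]⟩
  rw [← deg_eq_ord_detCoeff hτ F hF b, ord_eq hd]

theorem slope_le_deg_div [Module.Finite K(p, k) N] [Nontrivial N] (hτ : Tw τ) (hF : Function.Bijective F) :
    slope hτ F hF ≤ (deg (p := p) (k := k) (F : N → N) : ℝ) / finrank K(p, k) N := by
  obtain ⟨M, hM⟩ := exists_lattice (p := p) (k := k) (N := N)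
  refine le_of_tendsto (tendsto_slope (M := M) hτ hF)
    ((Filter.eventually_ge_atTop 1).mono fun n hn => ?_)
  have hn' : (0 : ℝ) < n := by exact_mod_cast hn
  have hd : (0 : ℝ) < finrank K(p, k) N := by exact_mod_cast Module.finrank_pos
  rw [div_le_div_iff₀ hn' hd]
  have := od_le (M := M) hτ hF n
  linarith

end Groth.Agent.IsocLib
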