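import Groth.Prelude.Def_Isoc
import Mathlib.RingTheory.WittVector.Complete

/-!
Orders of scalars in the fraction field of the Witt vectors; the twists.
-/

noncomputable section

open scoped Isocrystal

universe u v

namespace Groth.Agent.IsocLib

variable {p : ℕ} [Fact p.Prime] {k : Type u} [Field k] [CharP k p]

local notation "W" => WittVector p k
local notation "am" => algebraMap (WittVector p k) (FractionRing (WittVector p k))

/-- A twist: an endomorphism of `K(p, k)` restricting to an automorphism of `W`. -/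
def Tw (τ : K(p, k) →+* K(p, k)) : Prop := ∃ σ : W ≃+* W, ∀ w, τ (am w) = am (σ w)

variable {τ : K(p, k) →+* K(p, k)}

theorem tw_id : Tw (RingHom.id K(p, k)) := ⟨RingEquiv.refl _, fun _ => rfl⟩

theorem Tw.comp {τ' : K(p, k) →+* K(p, k)} (h : Tw τ) (h' : Tw τ') : Tw (τ.comp τ') := by
  obtain ⟨σ, hσ⟩ := h
  obtain ⟨σ', hσ'⟩ := h'
  exact ⟨σ'.trans σ, fun w => by simp [hσ', hσ]⟩

theorem Tw.pow (h : Tw τ) : ∀ n : ℕ, Tw (τ ^ n)
  | 0 => tw_id
  | n + 1 => by rw [pow_succ]; exact (h.pow n).comp h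

theorem Tw.map_mem (h : Tw τ) (w : W) : ∃ w' : W, τ (am w) = am w' :=
  let ⟨σ, hσ⟩ := h; ⟨σ w, hσ w⟩

theorem Tw.exists_preimage (h : Tw τ) (w' : W) : ∃ w : W, τ (am w) = am w' :=
  let ⟨σ, hσ⟩ := h; ⟨σ.symm w', by rw [hσ, RingEquiv.apply_symm_apply]⟩

theorem Tw.map_unit (h : Tw τ) (w : Wˣ) : ∃ w' : Wˣ, τ (am (w : W)) = am (w' : W) :=
  let ⟨σ, hσ⟩ := h; ⟨Units.map σ.toRingHom.toMonoidHom w, hσ w⟩

theorem Tw.map_p (τ : K(p, k) →+* K(p, k)) (r : ℤ) : τ ((p : K(p, k)) ^ r) = (p : K(p, k)) ^ r ∨ (p : K(p, k)) = 0 := by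
  by_cases hp : (p : K(p, k)) = 0
  · exact Or.inr hp
  refine Or.inl ?_
  cases r with
  | ofNat n => simp
  | negSucc n =>
    have hinv : τ (((p : K(p, k)) ^ (n + 1))⁻¹) * τ ((p : K(p, k)) ^ (n + 1)) = 1 := by
      rw [← map_mul, inv_mul_cancel₀ (pow_ne_zero _ hp), map_one]
    rw [map_pow, map_natCast] at hinv
    rw [zpow_negSucc]
    exact eq_inv_of_mul_eq_one_left hinv

theorem p_ne_zero : (p : K(p, k)) ≠ 0 := by
  rw [← map_natCast am]
  exact fun h => WittVector.p_nonzero p k ((map_eq_zero_iff _ (IsFractionRing.injective W K(p, k))).1 h)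

@[simp] theorem zpow_p_ne_zero (r : ℤ) : (p : K(p, k)) ^ r ≠ 0 := zpow_ne_zero _ p_ne_zero

@[simp] theorem map_zpow_p (τ : K(p, k) →+* K(p, k)) (r : ℤ) : τ ((p : K(p, k)) ^ r) = (p : K(p, k)) ^ r :=
  (Tw.map_p τ r).resolve_right p_ne_zero

theorem Tw.surjective (h : Tw τ) : Function.Surjective τ := by
  intro c
  obtain ⟨x, y, -, rfl⟩ := IsFractionRing.div_surjective (A := W) c
  obtain ⟨x', hx⟩ := h.exists_preimage x
  obtain ⟨y', hy⟩ := h.exists_preimage y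
  exact ⟨am x' / am y', by rw [map_div₀, hx, hy]⟩

theorem Tw.bijective (h : Tw τ) : Function.Bijective τ := ⟨τ.injective, h.surjective⟩

theorem isOrdP_mul {c c' : K(p, k)} {r r' : ℤ} (h : Isoc.IsOrdP c r) (h' : Isoc.IsOrdP c' r') :
    Isoc.IsOrdP (c * c') (r + r') := by
  obtain ⟨u, rfl⟩ := h
  obtain ⟨u', rfl⟩ := h'
  exact ⟨u * u', by rw [zpow_add₀ p_ne_zero, Units.val_mul, map_mul]; ring⟩

theorem isOrdP_zpow (r : ℤ) : Isoc.IsOrdP ((p : K(p, k)) ^ r) r := ⟨1, by simp⟩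

theorem isOrdP_map (h : Tw τ) {c : K(p, k)} {r : ℤ} (hc : Isoc.IsOrdP c r) : Isoc.IsOrdP (τ c) r := by
  obtain ⟨u, rfl⟩ := hc
  obtain ⟨u', hu'⟩ := h.map_unit u
  exact ⟨u', by rw [map_mul, map_zpow_p, hu']⟩

theorem IsOrdP_ne_zero {c : K(p, k)} {r : ℤ} (hc : Isoc.IsOrdP c r) : c ≠ 0 := by
  obtain ⟨u, rfl⟩ := hc
  exact mul_ne_zero (zpow_p_ne_zero r) fun h =>
    u.ne_zero ((map_eq_zero_iff _ (IsFractionRing.injective W K(p, k))).1 h)

theorem not_isUnit_p : ¬ IsUnit (p : W) := fun h => by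
  have := h.map (WittVector.constantCoeff : W →+* k)
  rw [map_natCast, CharP.cast_eq_zero k p] at this
  exact not_isUnit_zero this

theorem isOrdP_one_unique {r : ℤ} (h : Isoc.IsOrdP (1 : K(p, k)) r) : r = 0 := by
  obtain ⟨u, hu⟩ := h
  rcases Int.eq_nat_or_neg r with ⟨n, rfl | rfl⟩
  · rw [zpow_natCast, ← map_natCast am, ← map_pow, ← map_mul, ← map_one am] at hu
    have h1 := IsFractionRing.injective W K(p, k) hu
    by_contra hn
    have hn' : n ≠ 0 := by simpa using hn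
    exact not_isUnit_p ((isUnit_pow_iff hn').1 (IsUnit.of_mul_eq_one _ h1.symm))
  · rw [zpow_neg, zpow_natCast, eq_comm, inv_mul_eq_iff_eq_mul₀ (pow_ne_zero _ p_ne_zero), mul_one,
      ← map_natCast am, ← map_pow] at hu
    have h1 := IsFractionRing.injective W K(p, k) hu
    by_contra hn
    have hn' : n ≠ 0 := by simpa using hn
    exact not_isUnit_p ((isUnit_pow_iff hn').1 (h1 ▸ u.isUnit))

theorem isOrdP_inv {c : K(p, k)} {r : ℤ} (hc : Isoc.IsOrdP c r) : Isoc.IsOrdP c⁻¹ (-r) := by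
  obtain ⟨u, rfl⟩ := hc
  refine ⟨u⁻¹, ?_⟩
  rw [mul_inv, ← zpow_neg]
  congr 1
  refine inv_eq_of_mul_eq_one_right ?_
  rw [← map_mul, Units.mul_inv, map_one]

theorem isOrdP_unique {c : K(p, k)} {r r' : ℤ} (h : Isoc.IsOrdP c r) (h' : Isoc.IsOrdP c r') : r = r' := by
  have h0 := isOrdP_mul h (isOrdP_inv h')
  rw [mul_inv_cancel₀ (IsOrdP_ne_zero h')] at h0
  have := isOrdP_one_unique h0
  omega

variable [PerfectRing k p]

theorem exists_isOrdP {c : K(p, k)} (hc : c ≠ 0) : ∃ r, Isoc.IsOrdP c r := by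
  obtain ⟨x, y, hy, rfl⟩ := IsFractionRing.div_surjective (A := W) c
  have hx0 : x ≠ 0 := fun h => hc (by simp [h])
  have hy0 : y ≠ 0 := nonZeroDivisors.ne_zero hy
  obtain ⟨m, u, rfl⟩ := WittVector.exists_eq_pow_p_mul' x hx0
  obtain ⟨n, v, rfl⟩ := WittVector.exists_eq_pow_p_mul' y hy0
  refine ⟨(m : ℤ) + -(n : ℤ), ?_⟩
  rw [div_eq_mul_inv]
  exact isOrdP_mul ⟨u, by rw [map_mul, map_pow, map_natCast, zpow_natCast]⟩
    (isOrdP_inv ⟨v, by rw [map_mul, map_pow, map_natCast, zpow_natCast]⟩)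

open Classical in
/-- The order of a scalar (`0` for the zero scalar). -/
def ord (c : K(p, k)) : ℤ := if h : ∃ r, Isoc.IsOrdP c r then h.choose else 0

omit [PerfectRing k p] in
theorem ord_eq {c : K(p, k)} {r : ℤ} (h : Isoc.IsOrdP c r) : ord c = r := by
  have hex : ∃ r, Isoc.IsOrdP c r := ⟨r, h⟩
  rw [ord, dif_pos hex]
  exact isOrdP_unique hex.choose_spec h

theorem isOrdP_ord {c : K(p, k)} (hc : c ≠ 0) : Isoc.IsOrdP c (ord c) := by
  obtain ⟨r, hr⟩ := exists_isOrdP hc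
  rwa [ord_eq hr]

theorem ord_mul {c c' : K(p, k)} (hc : c ≠ 0) (hc' : c' ≠ 0) : ord (c * c') = ord c + ord c' :=
  ord_eq (isOrdP_mul (isOrdP_ord hc) (isOrdP_ord hc'))

omit [PerfectRing k p] in
theorem ord_zpow (r : ℤ) : ord ((p : K(p, k)) ^ r) = r := ord_eq (isOrdP_zpow r)

omit [PerfectRing k p] in
theorem ord_one : ord (1 : K(p, k)) = 0 := by simpa using ord_zpow (p := p) (k := k) 0

theorem ord_inv {c : K(p, k)} (hc : c ≠ 0) : ord c⁻¹ = -ord c := ord_eq (isOrdP_inv (isOrdP_ord hc))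

theorem ord_map (h : Tw τ) {c : K(p, k)} (hc : c ≠ 0) : ord (τ c) = ord c :=
  ord_eq (isOrdP_map h (isOrdP_ord hc))

theorem ord_prod {ι : Type*} (s : Finset ι) (f : ι → K(p, k)) (h : ∀ i ∈ s, f i ≠ 0) :
    ord (∏ i ∈ s, f i) = ∑ i ∈ s, ord (f i) := by
  classical
  induction s using Finset.induction_on with
  | empty => simp [ord_one]
  | insert a s ha ih =>
    rw [Finset.prod_insert ha, Finset.sum_insert ha, ord_mul (h a (Finset.mem_insert_self a s))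
      (Finset.prod_ne_zero_iff.2 fun i hi => h i (Finset.mem_insert_of_mem hi)),
      ih fun i hi => h i (Finset.mem_insert_of_mem hi)]

theorem ord_nonneg_of_mem {c : K(p, k)} (hc : c ≠ 0) {w : W} (h : am w = c) : 0 ≤ ord c := by
  subst h
  obtain ⟨n, u, rfl⟩ := WittVector.exists_eq_pow_p_mul' w (fun h0 => hc (by simp [h0]))
  rw [ord_eq (r := (n : ℤ)) ⟨u, by rw [map_mul, map_pow, map_natCast, zpow_natCast]⟩]
  exact Int.natCast_nonneg n

theorem exists_mem_of_ord_nonneg {c : K(p, k)} (hc : c ≠ 0) (h : 0 ≤ ord c) : ∃ w : W, am w = c := by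
  obtain ⟨u, hu⟩ := isOrdP_ord hc
  obtain ⟨n, hn⟩ := Int.eq_ofNat_of_zero_le h
  exact ⟨(p : W) ^ n * u, by rw [map_mul, map_pow, map_natCast, hu, hn, zpow_natCast]⟩

theorem exists_zpow_smul_mem (c : K(p, k)) : ∃ n : ℕ, ∃ w : W, (p : K(p, k)) ^ (n : ℤ) * c = am w := by
  by_cases hc : c = 0
  · exact ⟨0, 0, by simp [hc]⟩
  obtain ⟨n, hn⟩ : ∃ n : ℕ, -ord c ≤ n := ⟨(-ord c).toNat, Int.self_le_toNat _⟩
  have h0 : (p : K(p, k)) ^ (n : ℤ) * c ≠ 0 := mul_ne_zero (zpow_p_ne_zero _) hc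
  obtain ⟨w, hw⟩ := exists_mem_of_ord_nonneg h0 (by rw [ord_mul (zpow_p_ne_zero _) hc, ord_zpow]; omega)
  exact ⟨n, w, hw.symm⟩

theorem isUnit_of_ord_eq_zero {w : W} (hw : w ≠ 0) (h : ord (am w) = 0) : IsUnit w := by
  have hc : am w ≠ 0 := fun h0 => hw ((map_eq_zero_iff _ (IsFractionRing.injective W K(p, k))).1 h0)
  obtain ⟨u, hu⟩ := isOrdP_ord hc
  rw [h, zpow_zero, one_mul] at hu
  rw [IsFractionRing.injective W K(p, k) hu]
  exact u.isUnit

theorem ord_unit (u : Wˣ) : ord (am (u : W)) = 0 := by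
  refine ord_eq ⟨u, by simp⟩

theorem tw_frob (a : ℤ) : Tw (Isoc.frob p k a) :=
  ⟨WittVector.frobeniusEquiv p k ^ a, Isoc.frob_algebraMap p k a⟩

end Groth.Agent.IsocLib
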